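import Cfsg.Agent.Lib.Recog.SelfCentNine.SymSix

/-!
# The frame from the quotient of the normalizer
-/

set_option autoImplicit false

namespace CfsgLib.Recog.SelfCentNine

variable {G : Type*} [Group G] [Finite G]

/-- A group with a self-centralizing Sylow 3-subgroup of order nine with dihedral automizer,
containing the centralizers of its non-identity elements in its normalizer. -/
theorem normal_or_symSix_of_quotient (T : Sylow 3 G) (hcard : Nat.card (T : Subgroup G) = 9)
    (hC : Subgroup.centralizer ((T : Subgroup G) : Set G) = (T : Subgroup G))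
    (eN : Subgroup.normalizer ((T : Subgroup G) : Set G) ⧸
      (T : Subgroup G).subgroupOf (Subgroup.normalizer ((T : Subgroup G) : Set G)) ≃* DihedralGroup 4)
    (hloc : ∀ a ∈ (T : Subgroup G), a ≠ 1 →
      Subgroup.centralizer ({a} : Set G) ≤ Subgroup.normalizer ((T : Subgroup G) : Set G)) :
    (T : Subgroup G).Normal ∨ Nonempty (G ≃* Equiv.Perm (Fin 6)) := by
  haveI : Fact (Nat.Prime 2) := ⟨Nat.prime_two⟩
  set S := (T : Subgroup G) with hS
  set N := Subgroup.normalizer (S : Set G) with hN
  have hab : ∀ a ∈ S, ∀ b ∈ S, a * b = b * a := fun a ha b hb =>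
    (Subgroup.mem_centralizer_iff.1 (hC.ge hb)) a ha
  have hCS : ∀ g : G, (∀ a ∈ S, g * a * g⁻¹ = a) → g ∈ S := fun g hg =>
    hC.le (Subgroup.mem_centralizer_iff.2 fun a ha => (mul_inv_eq_iff_eq_mul.1 (hg a ha)).symm)
  have hNcard : Nat.card N = 72 := by
    rw [Subgroup.card_eq_card_quotient_mul_card_subgroup (S.subgroupOf N), Nat.card_congr eN.toEquiv,
      DihedralGroup.nat_card, Nat.card_congr (Subgroup.subgroupOfEquivOfLe Subgroup.le_normalizer).toEquiv,
      hcard]
  have h3 : ∀ a ∈ S, a ^ 3 = 1 := by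
    intro a ha
    by_contra h
    have ho : orderOf a = 9 := by
      have hd : orderOf a ∣ 3 ^ 2 := by
        have := S.orderOf_dvd_natCard ha
        rwa [hcard] at this
      obtain ⟨k, hk, hok⟩ := (Nat.dvd_prime_pow Nat.prime_three).1 hd
      interval_cases k
      · exact absurd (by rw [orderOf_eq_one_iff.1 (hok.trans (pow_zero 3)), one_pow]) h
      · exact absurd (by rw [← pow_one 3, ← hok]; exact pow_orderOf_eq_one a) h
      · exact hok
    have hz : Subgroup.zpowers a = S :=
      Subgroup.eq_of_le_of_card_ge (Subgroup.zpowers_le.2 ha) (by rw [Nat.card_zpowers, ho, hcard])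
    have hpow : ∀ n : N, ∃ i : ℤ, (n : G) * a * (n : G)⁻¹ = a ^ i := fun n => by
      have := (Subgroup.mem_normalizer_iff.1 n.2 a).1 ha
      rw [← hz] at this
      obtain ⟨i, hi⟩ := this
      exact ⟨i, hi.symm⟩
    choose i hi using hpow
    have hcomm : ∀ n m : N, ((n * m * n⁻¹ * m⁻¹ : N) : G) ∈ S := by
      intro n m
      have hfix : ((n * m * n⁻¹ * m⁻¹ : N) : G) * a * ((n * m * n⁻¹ * m⁻¹ : N) : G)⁻¹ = a := by
        have e1 : ∀ x y : N, ((x * y : N) : G) * a * ((x * y : N) : G)⁻¹ = a ^ (i x * i y) := fun x y => by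
          rw [Subgroup.coe_mul, show (x : G) * (y : G) * a * ((x : G) * (y : G))⁻¹ =
            (x : G) * ((y : G) * a * (y : G)⁻¹) * (x : G)⁻¹ by group, hi y, ← conj_zpow, hi x, ← zpow_mul]
        have e2 : ((n * m : N) : G) * a * ((n * m : N) : G)⁻¹ = ((m * n : N) : G) * a * ((m * n : N) : G)⁻¹ := by
          rw [e1, e1, mul_comm]
        have e3 : ((n * m * n⁻¹ * m⁻¹ : N) : G) = ((n * m : N) : G) * ((m * n : N) : G)⁻¹ := by
          push_cast; group
        rw [e3]
        calc ((n * m : N) : G) * ((m * n : N) : G)⁻¹ * a * (((n * m : N) : G) * ((m * n : N) : G)⁻¹)⁻¹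
            = ((n * m : N) : G) * (((m * n : N) : G)⁻¹ * a * ((m * n : N) : G)) * ((n * m : N) : G)⁻¹ := by group
          _ = a := by
            set p := ((n * m : N) : G)
            set q := ((m * n : N) : G)
            have hqa : q⁻¹ * a * q ∈ S := by
              have := (Subgroup.mem_normalizer_iff.1 (inv_mem (m * n : N).2) a).1 ha
              rwa [inv_inv] at this
            rw [← hz] at hqa
            obtain ⟨j, hj⟩ := hqa
            have hj' : a ^ j = q⁻¹ * a * q := hj
            rw [← hj', ← conj_zpow, e2, conj_zpow, hj']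
            group
      refine hCS _ fun b hb => ?_
      rw [← hz] at hb
      obtain ⟨j, rfl⟩ := hb
      show _ * a ^ j * _ = a ^ j
      rw [← conj_zpow, hfix]
    refine (DihedralGroup.not_commutative (n := 4) (by norm_num) (by norm_num)) ⟨⟨fun x y => ?_⟩⟩
    obtain ⟨X, rfl⟩ := eN.surjective x
    obtain ⟨Y, rfl⟩ := eN.surjective y
    rw [← map_mul, ← map_mul]
    congr 1
    induction X using QuotientGroup.induction_on with
    | H n =>
      induction Y using QuotientGroup.induction_on with
      | H m =>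
        rw [← QuotientGroup.mk_mul, ← QuotientGroup.mk_mul, QuotientGroup.eq_iff_div_mem, Subgroup.mem_subgroupOf]
        rw [show n * m / (m * n) = n * m * n⁻¹ * m⁻¹ by rw [div_eq_mul_inv, mul_inv_rev]; group]
        exact hcomm n m
  obtain ⟨P⟩ : Nonempty (Sylow 2 N) := inferInstance
  have hP : Nat.card (P : Subgroup N) = 8 := by
    rw [P.card_eq_multiplicity, hNcard]
    have h : (72 : ℕ).factorization 2 = 3 := by
      rw [show (72 : ℕ) = 2 ^ 3 * 9 by norm_num, Nat.factorization_mul (by norm_num) (by norm_num),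
        Nat.Prime.factorization_pow Nat.prime_two]
      simp [Nat.factorization_eq_zero_of_not_dvd]
    rw [h]; norm_num
  let η : (P : Subgroup N) →* DihedralGroup 4 :=
    eN.toMonoidHom.comp ((QuotientGroup.mk' (S.subgroupOf N)).comp (P : Subgroup N).subtype)
  have hη : Function.Injective η := by
    refine (injective_iff_map_eq_one η).2 fun p hp => ?_
    have h1 : ((p : N) : N ⧸ S.subgroupOf N) = 1 := eN.injective (hp.trans eN.map_one.symm)
    rw [QuotientGroup.eq_one_iff, Subgroup.mem_subgroupOf] at h1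
    have ho1 : orderOf p ∣ 8 := hP ▸ orderOf_dvd_natCard p
    have ho2 : orderOf p ∣ 9 := by
      rw [← Subgroup.orderOf_coe, ← Subgroup.orderOf_coe, ← hcard]
      exact S.orderOf_dvd_natCard h1
    exact orderOf_eq_one_iff.1 (Nat.dvd_one.1 (by simpa using Nat.dvd_gcd ho1 ho2))
  have hbij := hη.bijective_of_nat_card_le (by rw [hP, DihedralGroup.nat_card])
  let eP : (P : Subgroup N) ≃* DihedralGroup 4 := MulEquiv.ofBijective η hbij
  obtain ⟨F⟩ := exists_frame T hcard h3 hab hCS
    (fun a ha ha1 g hg => hloc a ha ha1 (Subgroup.mem_centralizer_singleton_iff.2 hg))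
    (fun n hn => by
      change 2 ^ n ∣ Nat.card N at hn
      rw [hNcard] at hn
      by_contra hcon
      have h16 : 2 ^ 4 ∣ 72 := (pow_dvd_pow 2 (by omega : 4 ≤ n)).trans hn
      norm_num at h16)
    ((Subgroup.subtype _).comp ((Subgroup.subtype _).comp eP.symm.toMonoidHom))
    (fun x y e => eP.symm.injective (Subtype.ext (Subtype.ext e)))
    (fun x => SetLike.coe_mem _)
  exact normal_or_symSix F

end CfsgLib.Recog.SelfCentNine
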