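import Cfsg.Agent.Lib.Recog.SelfCentNine.Patterns

/-!
# From the rows of the characters to the patterns
-/

set_option autoImplicit false

namespace CfsgLib.Recog.SelfCentNine

/-- The opposite row. -/
def Row.neg (v : Row) : Row := ⟨-v.a, -v.b, -v.c, -v.e⟩

theorem exists_list_map {α β : Type*} (f : α → β) : ∀ (p : List β) (m : Multiset α),
    (p : Multiset β) = m.map f → ∃ l : List α, (l : Multiset α) = m ∧ l.map f = p := by
  intro p
  induction p with
  | nil =>
    intro m h
    refine ⟨[], ?_, rfl⟩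
    rw [Multiset.coe_nil] at h ⊢
    exact (Multiset.map_eq_zero.1 h.symm).symm
  | cons v p ih =>
    intro m h
    have hv : v ∈ m.map f := by rw [← h]; simp
    obtain ⟨a, ha, rfl⟩ := Multiset.mem_map.1 hv
    obtain ⟨m', rfl⟩ := Multiset.exists_cons_of_mem ha
    rw [← Multiset.cons_coe, Multiset.map_cons, Multiset.cons_inj_right] at h
    obtain ⟨l, hl, hl'⟩ := ih m' h
    exact ⟨a :: l, by rw [← Multiset.cons_coe, hl], by rw [List.map_cons, hl']⟩

theorem zipWith_map_map {α β γ : Type*} (f : α → β) (g : α → γ) : ∀ l : List α,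
    List.zipWith Prod.mk (l.map f) (l.map g) = l.map fun a => (f a, g a) := by
  intro l
  induction l with
  | nil => rfl
  | cons a l ih => simp [ih]

/-- The sign of a row. -/
def rowSign (v : Row) : ℤ := if v ∈ rows then 1 else -1

theorem rowSign_sq (v : Row) : rowSign v * rowSign v = 1 := by
  unfold rowSign; split_ifs <;> rfl

theorem rowSign_abs (v : Row) : |rowSign v| = 1 := by
  unfold rowSign; split_ifs <;> rfl

/-- The normalised row. -/
def nrm (v : Row) : Row := ⟨rowSign v * v.a, rowSign v * v.b, rowSign v * v.c, rowSign v * v.e⟩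

theorem nrm_mem {v : Row} (ha : v.a * v.a ≤ 6) (hb : v.b * v.b ≤ 6) (hc : v.c * v.c ≤ 6)
    (he : v.e * v.e ≤ 6) (h3 : (v.c + v.e - v.a - v.b) % 3 = 0) (hne : v ≠ ⟨0, 0, 0, 0⟩) :
    nrm v ∈ rows := by
  have hs : ∀ x : ℤ, x * x ≤ 6 → x ∈ ([-2, -1, 0, 1, 2] : List ℤ) := fun x hx => by
    have : -2 ≤ x ∧ x ≤ 2 := ⟨by nlinarith, by nlinarith⟩
    simp only [List.mem_cons, List.not_mem_nil, or_false]
    omega
  obtain ⟨a, b, c, e⟩ := v
  rcases mem_rows_iff a (hs a ha) b (hs b hb) c (hs c hc) e (hs e he) h3 hne with h | h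
  · simpa [nrm, rowSign, h] using h
  · by_cases h' : (⟨a, b, c, e⟩ : Row) ∈ rows
    · simpa [nrm, rowSign, h'] using h'
    · simpa [nrm, rowSign, h'] using h

/-- The hypotheses on the degrees and rows of the non-trivial characters. -/
structure RowHyp {α : Type*} (s : Finset α) (D : α → ℤ) (row : α → Row) (n : ℕ) : Prop where
  hn : n % 648 = 72
  h720 : 720 ≤ n
  two_le : ∀ i ∈ s, 2 ≤ D i
  sq : 1 + ∑ i ∈ s, D i * D i ≤ (n : ℤ)
  three : ∀ i ∈ s, ((row i).c + (row i).e - (row i).a - (row i).b) % 3 = 0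
  cong : ∀ i ∈ s, (D i - 2 * ((row i).c + (row i).e) + ((row i).a + (row i).b)) % 9 = 0
  gram : gramOf (s.val.map row) = target
  orth_a : ∑ i ∈ s, D i * (row i).a = -1
  orth_b : ∑ i ∈ s, D i * (row i).b = 0
  orth_c : ∑ i ∈ s, D i * (row i).c = -1
  orth_e : ∑ i ∈ s, D i * (row i).e = 0
  sum_one : ∑ i ∈ s, ((row i).cubeOne : ℚ) / (D i : ℚ) = 0
  sum_two : ∑ i ∈ s, ((row i).cubeTwo : ℚ) / (D i : ℚ) = 1296 / (n : ℚ) - 2

/-- The conclusion. -/
theorem rows_conclusion {α : Type*} [DecidableEq α] {s : Finset α} {D : α → ℤ} {row : α → Row} {n : ℕ}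
    (h : RowHyp s D row n) :
    n = 720 ∨ (7 ∣ n ∧ ∃ i ∈ s, D i ≤ 5 ∧ ∀ j ∈ s, D j = D i → row j = row i → j = i) := by
  classical
  set nz := s.filter fun i => row i ≠ ⟨0, 0, 0, 0⟩ with hnz
  have hg := h.gram
  simp only [gramOf, target, Gram.mk.injEq, Multiset.map_map, Function.comp_def] at hg
  obtain ⟨gaa, gab, gac, gae, gbb, gbc, gbe, gcc, gce, gee⟩ := hg
  change ∑ i ∈ s, _ = _ at gaa gab gac gae gbb gbc gbe gcc gce gee
  have hfilter : ∀ {K : Type} [AddCommMonoid K] (F : α → K),
      (∀ i ∈ s, row i = ⟨0, 0, 0, 0⟩ → F i = 0) → ∑ i ∈ nz, F i = ∑ i ∈ s, F i := by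
    intro K _ F hF
    exact Finset.sum_filter_of_ne fun i hi hne h0 => hne (hF i hi h0)
  have hsig : ∀ (x y : ℤ) (v : Row), rowSign v * x * (rowSign v * y) = x * y := fun x y v => by
    calc rowSign v * x * (rowSign v * y) = rowSign v * rowSign v * (x * y) := by ring
      _ = _ := by rw [rowSign_sq, one_mul]
  have hmem : ∀ v ∈ nz.val.map (fun i => nrm (row i)), v ∈ rows := by
    intro v hv
    obtain ⟨i, hi, rfl⟩ := Multiset.mem_map.1 hv
    obtain ⟨his, hine⟩ := Finset.mem_filter.1 (show i ∈ nz from hi)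
    refine nrm_mem ?_ ?_ ?_ ?_ (h.three i his) hine
    · exact le_trans (le_trans (Finset.single_le_sum (f := fun i => (row i).a * (row i).a)
        (fun _ _ => mul_self_nonneg _) his) gaa.le) (by norm_num)
    · exact le_trans (Finset.single_le_sum (f := fun i => (row i).b * (row i).b)
        (fun _ _ => mul_self_nonneg _) his) gbb.le
    · exact le_trans (le_trans (Finset.single_le_sum (f := fun i => (row i).c * (row i).c)
        (fun _ _ => mul_self_nonneg _) his) gcc.le) (by norm_num)
    · exact le_trans (Finset.single_le_sum (f := fun i => (row i).e * (row i).e)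
        (fun _ _ => mul_self_nonneg _) his) gee.le
  have hgram : gramOf (nz.val.map fun i => nrm (row i)) = target := by
    simp only [gramOf, target, Gram.mk.injEq, Multiset.map_map, Function.comp_def, nrm, hsig]
    refine ⟨?_, ?_, ?_, ?_, ?_, ?_, ?_, ?_, ?_, ?_⟩ <;>
      (refine (hfilter _ fun i _ h0 => ?_).trans ?_ <;> first | assumption | simp [h0])
  obtain ⟨p, hp, hpm⟩ := mem_patterns hmem hgram
  obtain ⟨l, hl, hlp⟩ := exists_list_map _ p _ hpm
  have hlnd : l.Nodup := by
    have := nz.nodup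
    rwa [← hl, Multiset.coe_nodup] at this
  have hlmem : ∀ i, i ∈ l ↔ i ∈ s ∧ row i ≠ ⟨0, 0, 0, 0⟩ := fun i => by
    rw [← Multiset.mem_coe, hl, Finset.mem_val, hnz, Finset.mem_filter]
  set δ : α → ℤ := fun i => rowSign (row i) * D i with hδ
  set P := l.map fun i => (δ i, nrm (row i)) with hP
  have hsum : ∀ {K : Type} [AddCommMonoid K] (F : ℤ × Row → K),
      (P.map F).sum = ∑ i ∈ nz, F (δ i, nrm (row i)) := fun F => by
    rw [hP, List.map_map, ← Multiset.sum_coe, ← Multiset.map_coe, hl]; rfl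
  have habs : ∀ i, |δ i| = |D i| := fun i => by rw [hδ, abs_mul, rowSign_abs, one_mul]
  have hsys : Sys n P := by
    refine ⟨h.hn, h.h720, ?_, ?_, ?_, ?_, ?_, ?_, ?_, ?_, ?_⟩
    · intro u hu
      obtain ⟨i, hi, rfl⟩ := List.mem_map.1 hu
      exact (habs i).symm ▸ (h.two_le i ((hlmem i).1 hi).1).trans (le_abs_self _)
    · intro u hu
      obtain ⟨i, hi, rfl⟩ := List.mem_map.1 hu
      have hc := h.cong i ((hlmem i).1 hi).1
      simp only [hδ, nrm, rowSign]
      split_ifs <;> simp only [one_mul, neg_one_mul] <;> omega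
    · rw [hsum]
      refine le_trans (add_le_add le_rfl ?_) h.sq
      simp only [hδ, hsig]
      exact Finset.sum_le_sum_of_subset_of_nonneg (Finset.filter_subset _ _) fun _ _ _ => mul_self_nonneg _
    all_goals rw [hsum]
    all_goals simp only [hδ, nrm]
    · simp only [hsig]; exact (hfilter _ fun i _ h0 => by simp [h0]).trans h.orth_a
    · simp only [hsig]; exact (hfilter _ fun i _ h0 => by simp [h0]).trans h.orth_b
    · simp only [hsig]; exact (hfilter _ fun i _ h0 => by simp [h0]).trans h.orth_c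
    · simp only [hsig]; exact (hfilter _ fun i _ h0 => by simp [h0]).trans h.orth_e
    · refine Eq.trans ?_ ((hfilter _ fun i _ h0 => by simp [h0, Row.cubeOne]).trans h.sum_one)
      refine Finset.sum_congr rfl fun i _ => ?_
      simp only [Row.cubeOne, rowSign]
      split_ifs
      · simp
      · push_cast; simp only [neg_one_mul, div_neg, ← neg_div]; congr 1; ring
    · refine Eq.trans ?_ ((hfilter _ fun i _ h0 => by simp [h0, Row.cubeTwo]).trans h.sum_two)
      refine Finset.sum_congr rfl fun i _ => ?_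
      simp only [Row.cubeTwo, rowSign]
      split_ifs
      · simp
      · push_cast; simp only [neg_one_mul, div_neg, ← neg_div]; congr 1; ring
  have hzip : P = List.zipWith Prod.mk (l.map δ) p := by
    rw [← hlp, hP, zipWith_map_map]
  have hlen : (l.map δ).length = p.length := by rw [← hlp, List.length_map, List.length_map]
  rcases hzip ▸ good_of_zipWith hp hlen (hzip ▸ hsys) with h7 | ⟨h7, u, hu5, hcount⟩
  · exact Or.inl h7
  refine Or.inr ⟨h7, ?_⟩
  rw [hP, List.countP_map, List.countP_eq_length_filter, List.length_eq_one_iff] at hcount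
  obtain ⟨i, hi⟩ := hcount
  have hiq : i ∈ l ∧ ((δ i, nrm (row i)) = u ∨ (δ i, nrm (row i)) = negPair u) := by
    have : i ∈ [i] := List.mem_singleton_self i
    rw [← hi, List.mem_filter] at this
    simpa using this
  refine ⟨i, ((hlmem i).1 hiq.1).1, ?_, fun j hj hDj hrj => ?_⟩
  · have h1 : |δ i| ≤ 5 := by
      rcases hiq.2 with e | e
      · rw [show δ i = u.1 from congrArg Prod.fst e]; exact hu5
      · rw [show δ i = -u.1 from congrArg Prod.fst e, abs_neg]; exact hu5
    rw [habs] at h1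
    exact (le_abs_self _).trans h1
  · have hjl : j ∈ l := (hlmem j).2 ⟨hj, hrj ▸ ((hlmem i).1 hiq.1).2⟩
    have hjp : (δ j, nrm (row j)) = (δ i, nrm (row i)) := by simp only [hδ, hDj, hrj]
    have : j ∈ [i] := by
      rw [← hi, List.mem_filter]
      refine ⟨hjl, ?_⟩
      simp only [Function.comp_apply, decide_eq_true_eq, hjp]
      exact hiq.2
    exact List.mem_singleton.1 this

end CfsgLib.Recog.SelfCentNine
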