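import Cfsg.Agent.Lib.Classical.PrincipalPairs
import Cfsg.Agent.Lib.CharDegree.Counting
import Cfsg.Agent.Lib.Char.PowerTwist
import Cfsg.Agent.Lib.Char.Rationality
import Cfsg.Agent.Lib.Char.SchurBound

/-!
# Values of characters of a simple group at elements of order dividing six
-/

set_option autoImplicit false

namespace CfsgLib.Recog.SelfCentNine

open Cfsg CfsgLib.Char
open scoped Classical ComplexConjugate

variable {G : Type*} [Group G] [Fintype G]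

theorem exists_omega : ∃ w : ℂ, w ^ 3 = 1 ∧ w ^ 2 + w + 1 = 0 := by
  have h := Complex.isPrimitiveRoot_exp 3 (by norm_num)
  refine ⟨_, h.pow_eq_one, ?_⟩
  have := h.geom_sum_eq_zero (by norm_num)
  simp only [Finset.sum_range_succ, Finset.sum_range_zero, pow_zero, pow_one, zero_add] at this
  linear_combination this

/-- The values at `x` and `x ^ 2` for a real element `x` with `x ^ 6 = 1`. -/
theorem value_pair (χ : IrrCharacter G) {x : G} (hx : x ^ 6 = 1) (h1 : IsConj x x⁻¹)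
    (h2 : IsConj (x ^ 2) (x ^ 2)⁻¹) :
    ∃ a b k : ℤ, (χ : G → ℂ) (x ^ 2) = (a + b : ℤ) ∧ (χ : G → ℂ) x = (a - b : ℤ) ∧
      (charDegree (χ : G → ℂ) : ℤ) - (a + b) = 3 * k := by
  obtain ⟨w, hw3, hw⟩ := exists_omega
  have e5 : (χ : G → ℂ) (x ^ 5) = (χ : G → ℂ) x := by
    rw [show x ^ 5 = x⁻¹ from eq_inv_of_mul_eq_one_left (by rw [← pow_succ]; exact hx)]
    exact CfsgLib.CharDegree.apply_eq_of_isConj χ h1.symm
  have e4 : (χ : G → ℂ) (x ^ 4) = (χ : G → ℂ) (x ^ 2) := by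
    rw [show x ^ 4 = (x ^ 2)⁻¹ from eq_inv_of_mul_eq_one_left (by rw [← pow_add]; exact hx)]
    exact CfsgLib.CharDegree.apply_eq_of_isConj χ h2.symm
  set D := (χ : G → ℂ) 1 with hD
  have avg : ∀ u : ℂ, u ^ 6 = 1 → ∃ z : ℤ,
      D + u * (χ : G → ℂ) x + u ^ 2 * (χ : G → ℂ) (x ^ 2) + u ^ 3 * (χ : G → ℂ) (x ^ 3) +
        u ^ 4 * (χ : G → ℂ) (x ^ 2) + u ^ 5 * (χ : G → ℂ) x = 6 * (z : ℂ) := by
    intro u hu
    obtain ⟨z, hz⟩ := CfsgLib.Classical.PrincipalPairs.exists_int_avg (χ := χ) (t := 1) (one_mul 1)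
      (Commute.one_left x) (n := 6) (by norm_num) hx hu
    refine ⟨z, ?_⟩
    simp only [Finset.sum_range_succ, Finset.sum_range_zero, pow_zero, pow_one, one_mul, zero_add, e4, e5] at hz
    rw [← hz, hD]
    push_cast
    ring
  obtain ⟨m0, h0⟩ := avg 1 (one_pow 6)
  obtain ⟨m3, h3⟩ := avg (-1) (by norm_num)
  obtain ⟨m2, hm2⟩ := avg w (by linear_combination (w ^ 3 + 1) * hw3)
  obtain ⟨m1, hm1⟩ := avg (-w) (by linear_combination (w ^ 3 + 1) * hw3)
  have q0 : D + 2 * (χ : G → ℂ) x + 2 * (χ : G → ℂ) (x ^ 2) + (χ : G → ℂ) (x ^ 3) = 6 * m0 := by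
    linear_combination h0
  have q3 : D - 2 * (χ : G → ℂ) x + 2 * (χ : G → ℂ) (x ^ 2) - (χ : G → ℂ) (x ^ 3) = 6 * m3 := by
    linear_combination h3
  have q2 : D - (χ : G → ℂ) x - (χ : G → ℂ) (x ^ 2) + (χ : G → ℂ) (x ^ 3) = 6 * m2 := by
    linear_combination hm2 - ((χ : G → ℂ) x + (χ : G → ℂ) (x ^ 2)) * hw -
      ((χ : G → ℂ) x * w ^ 2 + (χ : G → ℂ) (x ^ 2) * w + (χ : G → ℂ) (x ^ 3)) * hw3
  have q1 : D + (χ : G → ℂ) x - (χ : G → ℂ) (x ^ 2) - (χ : G → ℂ) (x ^ 3) = 6 * m1 := by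
    linear_combination hm1 + ((χ : G → ℂ) x - (χ : G → ℂ) (x ^ 2)) * hw +
      ((χ : G → ℂ) x * w ^ 2 - (χ : G → ℂ) (x ^ 2) * w + (χ : G → ℂ) (x ^ 3)) * hw3
  refine ⟨m0 - m2, m3 - m1, m0 + m3 - (m0 - m2) - (m3 - m1), ?_, ?_, ?_⟩
  · push_cast; linear_combination (1 / 6 : ℂ) * q0 + (1 / 6 : ℂ) * q3 - (1 / 6 : ℂ) * q2 - (1 / 6 : ℂ) * q1
  · push_cast; linear_combination (1 / 6 : ℂ) * q0 - (1 / 6 : ℂ) * q3 - (1 / 6 : ℂ) * q2 + (1 / 6 : ℂ) * q1
  · have hq : ((charDegree (χ : G → ℂ) : ℤ) : ℂ) = D := by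
      rw [Int.cast_natCast]; exact CfsgLib.CharDegree.cast_irrDegree χ
    have : ((((charDegree (χ : G → ℂ) : ℤ) - ((m0 - m2) + (m3 - m1)) : ℤ) : ℂ)) =
        ((3 * (m0 + m3 - (m0 - m2) - (m3 - m1)) : ℤ) : ℂ) := by
      push_cast at hq ⊢
      rw [hq]
      linear_combination (1 / 6 : ℂ) * q0 + (1 / 6 : ℂ) * q3 + (1 / 3 : ℂ) * q2 + (1 / 3 : ℂ) * q1
    exact_mod_cast this

/-- The average over a subgroup is an integer. -/
theorem sum_subgroup (χ : IrrCharacter G) (H : Subgroup G) [Fintype H] :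
    ∃ m : ℕ, ∑ p : H, (χ : G → ℂ) p = (Nat.card H : ℂ) * m := by
  obtain ⟨m, hm⟩ := IsChar.classInner_eq_natCast
    (IsChar.restrict H (IsIrr.isCharacter χ.2)) (isCharacter_one (G := H))
  refine ⟨m, ?_⟩
  rw [Cfsg.classInner] at hm
  simp only [map_one, mul_one] at hm
  rw [← hm, ← mul_assoc, mul_inv_cancel₀ (Nat.cast_ne_zero.2 Nat.card_pos.ne'), one_mul]

variable [IsSimpleGroup G]

theorem ker_eq_bot {χ : IrrCharacter G} (hχ : χ ≠ trivChar G) :
    CfsgLib.CharDegree.kerSubgroup χ = ⊥ := by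
  rcases (CfsgLib.CharDegree.kerSubgroup_normal χ).eq_bot_or_eq_top with h | h
  · exact h
  · exfalso
    have hall : ∀ g : G, (χ : G → ℂ) g = (χ : G → ℂ) 1 := fun g =>
      CfsgLib.CharDegree.mem_kerSubgroup.1 (h ▸ Subgroup.mem_top g)
    have hsum := classInner_irr_of_ne (χ := χ) (ψ := trivChar G) hχ
    simp only [Cfsg.classInner, trivChar_apply, map_one, mul_one, hall, Finset.sum_const,
      Finset.card_univ, nsmul_eq_mul] at hsum
    rw [mul_eq_zero, mul_eq_zero, inv_eq_zero] at hsum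
    rcases hsum with e | e | e
    · exact absurd e (Nat.cast_ne_zero.2 Nat.card_pos.ne')
    · exact absurd e (Nat.cast_ne_zero.2 Fintype.card_pos.ne')
    · exact absurd e (IsIrr.apply_one_ne_zero χ.2)

theorem two_le_degree (hnc : ¬ IsMulCommutative G) {χ : IrrCharacter G} (hχ : χ ≠ trivChar G) :
    2 ≤ charDegree (χ : G → ℂ) := by
  have hpos := CfsgLib.CharDegree.charDegree_pos χ
  by_contra hcon
  have h : charDegree (χ : G → ℂ) = 1 := by omega
  refine hnc ⟨⟨fun a c => ?_⟩⟩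
  have h1 : a * c * a⁻¹ * c⁻¹ = 1 := by
    refine (CfsgLib.CharDegree.kerSubgroup_eq_bot_iff.1 (ker_eq_bot hχ)) _ ?_
    obtain ⟨n, ρ, -, hρ, hn⟩ := CfsgLib.CharDegree.exists_rep χ
    rw [h] at hn
    subst hn
    have hc : ∀ T S : Module.End ℂ (Fin 1 → ℂ), T * S = S * T := by
      intro T S
      obtain ⟨t, ht⟩ : ∃ t : ℂ, T = t • (1 : Module.End ℂ (Fin 1 → ℂ)) := by
        refine ⟨T (fun _ => 1) 0, LinearMap.ext fun x => funext fun i => ?_⟩
        have hx : x = x 0 • (fun _ => (1 : ℂ)) := funext fun j => by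
          rw [Subsingleton.elim j 0]; simp
        rw [LinearMap.smul_apply, Module.End.one_apply, Subsingleton.elim i 0]
        conv_lhs => rw [hx, map_smul]
        simp [mul_comm]
      rw [ht, smul_mul_assoc, one_mul, mul_smul_comm, mul_one]
    have he : ρ (a * c * a⁻¹ * c⁻¹) = ρ 1 := by
      rw [map_mul, map_mul, map_mul, hc (ρ a) (ρ c), mul_assoc (ρ c), ← map_mul, mul_inv_cancel,
        map_one, mul_one, ← map_mul, mul_inv_cancel, map_one]
    rw [← hρ, Representation.character, Representation.character, he]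
  calc a * c = a * c * a⁻¹ * c⁻¹ * (c * a) := by group
    _ = c * a := by rw [h1, one_mul]

/-- A rational character of degree at most five forbids elements of order seven. -/
theorem not_seven_dvd {χ : IrrCharacter G} (hχ : χ ≠ trivChar G)
    (hd : charDegree (χ : G → ℂ) ≤ 5)
    (hgal : ∀ (g : G) (m : ℕ), m.Coprime (Nat.card G) → (χ : G → ℂ) (g ^ m) = (χ : G → ℂ) g) :
    ¬ 7 ∣ Nat.card G := by
  intro h7
  haveI : Fact (Nat.Prime 7) := ⟨by norm_num⟩
  obtain ⟨y, hy⟩ := exists_prime_orderOf_dvd_card' (G := G) 7 h7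
  obtain ⟨n, ρ, -, hρ, hn⟩ := CfsgLib.CharDegree.exists_rep χ
  obtain ⟨q, hq⟩ := CfsgLib.CharRational.exists_rat_of_apply_pow_eq ρ y
    (fun m hm => by rw [hρ]; exact hgal y m hm)
  rw [hρ] at hq
  obtain ⟨v, hv, hdvd, hlow, hup⟩ := CfsgLib.SchurBound.value_bound (p := 7) (IsIrr.isCharacter χ.2)
    (CfsgLib.CharDegree.cast_irrDegree χ).symm (r := 1) one_pos (by norm_num) (g := y)
    ⟨1, by rw [pow_one, ← hy]; exact pow_orderOf_eq_one y⟩
    (by rw [hq]; exact (IntermediateField.adjoin ℚ _).algebraMap_mem q)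
  have hv' : v = (charDegree (χ : G → ℂ) : ℤ) := by
    push_cast at hlow hdvd
    omega
  have hker : y ∈ CfsgLib.CharDegree.kerSubgroup χ :=
    CfsgLib.CharDegree.mem_kerSubgroup.2 (by
      rw [hv, hv', Int.cast_natCast]; exact CfsgLib.CharDegree.cast_irrDegree χ)
  rw [ker_eq_bot hχ, Subgroup.mem_bot] at hker
  rw [hker, orderOf_one] at hy
  omega

end CfsgLib.Recog.SelfCentNine
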