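import Cfsg.Agent.Lib.Recog.SelfCentNine.Counts
import Cfsg.Agent.Lib.Recog.SelfCentNine.Transfer
import Cfsg.Agent.Lib.Recog.SelfCentNine.Values
import Cfsg.Agent.S0496

/-!
# No simple group has a self-centralizing Sylow 3-subgroup of order nine with dihedral automizer

`false_of_frame`: the characters which do not vanish on the four classes meeting the centralizers
leave the orders `720`, `20160`, `38304`, `201600`; the last three have a rational character of
degree at most five and elements of order seven.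
-/

set_option autoImplicit false

namespace CfsgLib.Recog.SelfCentNine

open Cfsg CfsgLib.Char
open scoped Classical ComplexConjugate

variable {G : Type*} [Group G] [Finite G] {T : Sylow 3 G} (F : Frame T)

namespace Frame

include F in
theorem card_T : Nat.card (T : Subgroup G) = 9 := by
  have hb : Function.Bijective (fun v => (⟨F.φ v, F.mem_phi v⟩ : (T : Subgroup G))) :=
    ⟨fun u v e => F.inj (congrArg Subtype.val e), fun g => by
      obtain ⟨v, hv⟩ := (F.mem g).1 g.2
      exact ⟨v, Subtype.ext hv⟩⟩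
  rw [← Nat.card_congr (Equiv.ofBijective _ hb), Nat.card_prod, Nat.card_zmod]

include F in
theorem card_normalizer : Nat.card (Subgroup.normalizer ((T : Subgroup G) : Set G)) = 72 := by
  have hb : Function.Bijective (fun w : V × DihedralGroup 4 =>
      (⟨F.φ w.1 * F.ι w.2, mul_mem (F.mem_normalizer_phi _) (F.ι_mem _)⟩ :
        Subgroup.normalizer ((T : Subgroup G) : Set G))) := by
    refine ⟨fun u v e => ?_, fun g => ?_⟩
    · obtain ⟨h1, h2⟩ := F.word_inj (congrArg Subtype.val e)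
      exact Prod.ext h1 h2
    · obtain ⟨v, x, hg⟩ := F.decomp g g.2
      exact ⟨(v, x), Subtype.ext hg.symm⟩
  rw [← Nat.card_congr (Equiv.ofBijective _ hb), Nat.card_prod, Nat.card_prod, Nat.card_zmod,
    DihedralGroup.nat_card]

include F in
theorem index_mod_nine : (Subgroup.normalizer ((T : Subgroup G) : Set G)).index % 9 = 1 := by
  haveI : Fact (Nat.Prime 3) := ⟨Nat.prime_three⟩
  set S := (T : Subgroup G) with hS
  set N := Subgroup.normalizer (S : Set G) with hN
  have hfix : ∀ (R : Sylow 3 G) (t : G), t ∈ S → t ≠ 1 → t • R = R → R = T := by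
    intro R t ht ht1 hR
    have htn : t ∈ Subgroup.normalizer ((R : Subgroup G) : Set G) := Sylow.smul_eq_iff_mem_normalizer.mp hR
    have htp : IsPGroup 3 (Subgroup.zpowers t) := T.isPGroup'.to_le (Subgroup.zpowers_le.mpr ht)
    have htR : t ∈ (R : Subgroup G) := by
      rw [← R.is_maximal' (htp.to_sup_of_normal_right' R.isPGroup' (Subgroup.zpowers_le.mpr htn)) le_sup_right]
      exact Subgroup.mem_sup_left (Subgroup.mem_zpowers t)
    obtain ⟨c, hc⟩ := MulAction.exists_smul_eq G T R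
    rw [← hc] at htR
    obtain ⟨q, hq, hqt⟩ := htR
    have hqt' : c * q * c⁻¹ = t := hqt
    have hcN : c ∈ N := F.mem_normalizer_of_conj hq (fun h => ht1 (by rw [← hqt', h]; group)) (hqt' ▸ ht)
    rw [← hc]
    exact Sylow.smul_eq_iff_mem_normalizer.mpr hcN
  have hSyl : Nat.card (Sylow 3 G) = N.index := by rw [Sylow.card_eq_index_normalizer T]; rfl
  have hmod : 9 ∣ Nat.card (Sylow 3 G) - 1 := by
    classical
    haveI := Fintype.ofFinite (Sylow 3 G)
    haveI := Fintype.ofFinite (MulAction.orbitRel.Quotient S (Sylow 3 G))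
    rw [← Nat.modEq_iff_dvd' Finite.card_pos]
    refine Nat.ModEq.symm ?_
    rw [Nat.card_congr (MulAction.selfEquivSigmaOrbits S (Sylow 3 G)), Nat.card_sigma,
      ← Finset.add_sum_erase _ _ (Finset.mem_univ (Quotient.mk'' T : MulAction.orbitRel.Quotient S (Sylow 3 G)))]
    have hTfix : ∀ s : S, s • T = T := fun s => Sylow.smul_eq_iff_mem_normalizer.mpr (Subgroup.le_normalizer s.2)
    have hout : Quotient.out (Quotient.mk'' T : MulAction.orbitRel.Quotient S (Sylow 3 G)) = T := by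
      obtain ⟨s, hs⟩ := Quotient.exact' (Quotient.out_eq (Quotient.mk'' T : MulAction.orbitRel.Quotient S (Sylow 3 G)))
      rw [← hs]; exact hTfix s
    have hone : Nat.card (MulAction.orbit S (Quotient.out (Quotient.mk'' T : MulAction.orbitRel.Quotient S (Sylow 3 G)))) = 1 := by
      rw [hout, Nat.card_eq_one_iff_unique]
      refine ⟨⟨?_⟩, ⟨⟨T, MulAction.mem_orbit_self _⟩⟩⟩
      rintro ⟨_, s, rfl⟩ ⟨_, r, rfl⟩
      exact Subtype.ext ((hTfix s).trans (hTfix r).symm)
    rw [hone]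
    refine Nat.ModEq.trans (Nat.ModEq.add_left 1 (Nat.modEq_zero_iff_dvd.mpr (Finset.dvd_sum fun ω hω => ?_))) rfl
    have hne : Quotient.out ω ≠ T := fun h => Finset.ne_of_mem_erase hω (by rw [← Quotient.out_eq' ω, h])
    have hst : MulAction.stabilizer S (Quotient.out ω) = ⊥ := by
      rw [Subgroup.eq_bot_iff_forall]
      intro s hs
      by_contra hs1
      exact hne (hfix _ s s.2 (fun h => hs1 (Subtype.ext h)) hs)
    rw [Nat.card_coe_set_eq, ← MulAction.index_stabilizer, hst, Subgroup.index_bot, F.card_T]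
  rw [hSyl] at hmod
  have hipos : 0 < N.index := Nat.pos_of_ne_zero Subgroup.index_ne_zero_of_finite
  omega

omit [Finite G] in
/-- A reflection times an element it fixes has order six. -/
theorem word_facts {x : DihedralGroup 4} {v : V} (hx : x * x = 1) (hv : act x v = v)
    (hneg : act (.r 2) v = -v) :
    (F.ι x * F.φ v) ^ 6 = 1 ∧ (F.ι x * F.φ v) ^ 2 = F.φ (v + v) ∧ (F.ι x * F.φ v) ^ 3 = F.ι x ∧
      IsConj (F.ι x * F.φ v) (F.ι x * F.φ v)⁻¹ := by
  have hc : Commute (F.ι x) (F.φ v) := by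
    have := F.conj x v
    rw [hv] at this
    exact mul_inv_eq_iff_eq_mul.1 this
  have h2 : F.ι x ^ 2 = 1 := by rw [pow_two, ← map_mul, hx, map_one]
  refine ⟨?_, ?_, ?_, isConj_iff.2 ⟨F.ι (.r 2), ?_⟩⟩
  · rw [hc.mul_pow, show (6 : ℕ) = 2 * 3 by norm_num, pow_mul, h2, one_pow, one_mul, mul_comm 2 3, pow_mul,
      F.phi_cube, one_pow]
  · rw [hc.mul_pow, h2, one_mul, pow_two, ← F.add]
  · rw [hc.mul_pow, F.phi_cube, mul_one, pow_succ, h2, one_mul]
  · have key : ∀ y : DihedralGroup 4, .r 2 * y = y * .r 2 := by decide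
    have hx' : (F.ι x)⁻¹ = F.ι x := inv_eq_of_mul_eq_one_right (by rw [← pow_two, h2])
    calc F.ι (.r 2) * (F.ι x * F.φ v) * (F.ι (.r 2))⁻¹
        = (F.ι (.r 2) * F.ι x) * F.φ v * (F.ι (.r 2))⁻¹ := by group
      _ = F.ι x * (F.ι (.r 2) * F.φ v * (F.ι (.r 2))⁻¹) := by rw [← map_mul, key, map_mul]; group
      _ = F.ι x * (F.φ v)⁻¹ := by rw [F.conj, hneg, F.neg]
      _ = (F.ι x * F.φ v)⁻¹ := by rw [mul_inv_rev, hx']; exact hc.inv_right.eq

end Frame

/-- The main contradiction. -/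
theorem false_of_frame [IsSimpleGroup G] (F : Frame T) : False := by
  classical
  haveI := Fintype.ofFinite G
  haveI := Fintype.ofFinite (IrrCharacter G)
  -- orders
  set N := Subgroup.normalizer ((T : Subgroup G) : Set G) with hNdef
  have hcard : N.index * 72 = Nat.card G := by rw [← F.card_normalizer]; exact N.index_mul_card
  have hi9 : N.index % 9 = 1 := F.index_mod_nine
  have hi1 : N.index ≠ 1 := by
    intro h
    have hN : N = ⊤ := Subgroup.index_eq_one.1 h
    haveI : (T : Subgroup G).Normal := Subgroup.normalizer_eq_top_iff.1 hN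
    have h9 := F.card_T
    rcases IsSimpleGroup.eq_bot_or_eq_top_of_normal (T : Subgroup G) inferInstance with e | e
    · rw [e, Subgroup.card_bot] at h9; omega
    · rw [e, Subgroup.card_top] at h9; omega
  have h648 : Nat.card G % 648 = 72 := by omega
  have h720 : 720 ≤ Nat.card G := by omega
  have hnc : ¬ IsMulCommutative G := fun h => by
    have hnorm : (T : Subgroup G).Normal := ⟨fun a ha g => by
      rw [h.is_comm.comm g a, mul_inv_cancel_right]; exact ha⟩
    have h9 := F.card_T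
    rcases IsSimpleGroup.eq_bot_or_eq_top_of_normal (T : Subgroup G) hnorm with e | e
    · rw [e, Subgroup.card_bot] at h9; omega
    · rw [e, Subgroup.card_top] at h9; omega
  -- the four elements
  set f := F.φ (1, 0) with hf
  set e := F.φ (1, 1) with he
  set B := F.ι (.sr 0) * F.φ (1, 0) with hB
  set B' := F.ι (.sr 1) * F.φ (1, 1) with hB'
  obtain ⟨hB6, hB2, hB3, hBreal⟩ := F.word_facts (x := .sr 0) (v := (1, 0)) (by decide) (by decide) (by decide)
  obtain ⟨hB'6, hB'2, hB'3, hB'real⟩ := F.word_facts (x := .sr 1) (v := (1, 1)) (by decide) (by decide) (by decide)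
  rw [← hB] at hB6 hB2 hB3 hBreal
  rw [← hB'] at hB'6 hB'2 hB'3 hB'real
  have hf2 : IsConj f (B ^ 2) := by rw [hB2, hf]; exact (F.isConj_iff_act (by decide)).2 (by decide)
  have he2 : IsConj e (B' ^ 2) := by rw [hB'2, he]; exact (F.isConj_iff_act (by decide)).2 (by decide)
  have hfreal : IsConj f f⁻¹ := by rw [hf, ← F.neg]; exact (F.isConj_iff_act (by decide)).2 (by decide)
  have hereal : IsConj e e⁻¹ := by rw [he, ← F.neg]; exact (F.isConj_iff_act (by decide)).2 (by decide)
  have hsqreal : ∀ {x y : G}, IsConj x y → IsConj x x⁻¹ → IsConj y y⁻¹ := by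
    intro x y hxy hx
    obtain ⟨c, rfl⟩ := isConj_iff.1 hxy
    refine (hxy.symm.trans hx).trans (isConj_iff.2 ⟨c, by group⟩)
  -- centralizers
  have hCf : Nat.card (Subgroup.centralizer ({f} : Set G)) = 18 := by
    have h := F.card_centralizer 1 (1, 0) (by decide) (by decide) (by decide) (fun x _ => by rw [mul_one, one_mul])
    rw [map_one, one_mul, ← hf] at h
    rw [h, Nat.card_eq_fintype_card, Nat.card_eq_fintype_card]; rfl
  have hCe : Nat.card (Subgroup.centralizer ({e} : Set G)) = 18 := by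
    have h := F.card_centralizer 1 (1, 1) (by decide) (by decide) (by decide) (fun x _ => by rw [mul_one, one_mul])
    rw [map_one, one_mul, ← he] at h
    rw [h, Nat.card_eq_fintype_card, Nat.card_eq_fintype_card]; rfl
  have hCB : Nat.card (Subgroup.centralizer ({B} : Set G)) = 6 := by
    rw [hB, F.card_centralizer (.sr 0) (1, 0) (by decide) (by decide) (by decide) (by decide),
      Nat.card_eq_fintype_card, Nat.card_eq_fintype_card]; rfl
  have hCB' : Nat.card (Subgroup.centralizer ({B'} : Set G)) = 6 := by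
    rw [hB', F.card_centralizer (.sr 1) (1, 1) (by decide) (by decide) (by decide) (by decide),
      Nat.card_eq_fintype_card, Nat.card_eq_fintype_card]; rfl
  -- distinct classes
  have hφ1 : ∀ v : V, v ≠ 0 → F.φ v ≠ 1 := fun v hv h => hv (F.inj (h.trans F.zero.symm))
  have hι1 : ∀ x : DihedralGroup 4, x ≠ 1 → F.ι x ≠ 1 := fun x hx h => hx (F.ι_inj (h.trans (map_one _).symm))
  have hnfe : ¬ IsConj f e := fun h => by
    obtain ⟨x, hx⟩ := (F.isConj_iff_act (by decide)).1 h
    exact (by decide : ∀ x, act x ((1, 0) : V) ≠ (1, 1)) x hx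
  have hnBB : ¬ IsConj B B' := fun h => hnfe (hf2.trans ((h.pow 2).trans he2.symm))
  have hthree : ∀ (v : V) (X : G) (x : DihedralGroup 4), X ^ 3 = F.ι x → x ≠ 1 → ¬ IsConj (F.φ v) X := by
    intro v X x hX hx h
    obtain ⟨c, hc⟩ := isConj_iff.1 h
    refine hι1 x hx ?_
    rw [← hX, ← hc, conj_pow, F.phi_cube, mul_one, mul_inv_cancel]
  have hnfB : ¬ IsConj f B := hthree _ B _ hB3 (by decide)
  have hnfB' : ¬ IsConj f B' := hthree _ B' _ hB'3 (by decide)
  have hneB : ¬ IsConj e B := hthree _ B _ hB3 (by decide)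
  have hneB' : ¬ IsConj e B' := hthree _ B' _ hB'3 (by decide)
  have hB1 : B ≠ 1 := fun h => hι1 _ (by decide) (hB3.symm.trans (by rw [h, one_pow]))
  have hB'1 : B' ≠ 1 := fun h => hι1 _ (by decide) (hB'3.symm.trans (by rw [h, one_pow]))
  have hn1 : ∀ t : G, t ≠ 1 → ¬ IsConj 1 t := fun t ht h => ht (isConj_one_right.mp h)
  -- values
  have hval := fun χ => value_pair χ hB6 hBreal (hsqreal hf2 hfreal)
  have hval' := fun χ => value_pair χ hB'6 hB'real (hsqreal he2 hereal)
  choose a b k hab hab' hk using hval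
  choose c ee k' hce hce' hk' using hval'
  set row : IrrCharacter G → Row := fun χ => ⟨a χ, b χ, c χ, ee χ⟩ with hrow
  set X : IrrCharacter G → ℤ := fun χ => a χ + b χ with hX
  set W : IrrCharacter G → ℤ := fun χ => a χ - b χ with hW
  set Y : IrrCharacter G → ℤ := fun χ => c χ + ee χ with hY
  set W' : IrrCharacter G → ℤ := fun χ => c χ - ee χ with hW'
  have hXv : ∀ χ : IrrCharacter G, (χ : G → ℂ) f = X χ := fun χ =>
    (CfsgLib.CharDegree.apply_eq_of_isConj χ hf2).trans (hab χ)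
  have hYv : ∀ χ : IrrCharacter G, (χ : G → ℂ) e = Y χ := fun χ =>
    (CfsgLib.CharDegree.apply_eq_of_isConj χ he2).trans (hce χ)
  set D : IrrCharacter G → ℤ := fun χ => (charDegree (χ : G → ℂ) : ℤ) with hD
  have hDv : ∀ χ : IrrCharacter G, (χ : G → ℂ) 1 = (D χ : ℂ) := fun χ => by
    simp only [hD, Int.cast_natCast]
    exact (CfsgLib.CharDegree.cast_irrDegree χ).symm
  have horth : ∀ (p q : G) (A A' : IrrCharacter G → ℤ), (∀ χ : IrrCharacter G, (χ : G → ℂ) p = A χ) →
      (∀ χ : IrrCharacter G, (χ : G → ℂ) q = A' χ) → (∑ χ, A χ * A' χ : ℤ) =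
        if IsConj p q then (Nat.card (Subgroup.centralizer ({p} : Set G)) : ℤ) else 0 := by
    intro p q A A' hA hA'
    have h := CfsgLib.Char.column_orthogonality p q
    simp only [hA, hA', map_intCast] at h
    split_ifs with hpq <;> simp only [hpq, if_true, if_false] at h <;> exact_mod_cast h
  have hXX := horth f f X X hXv hXv
  have hWW := horth B B W W hab' hab'
  have hXW := horth f B X W hXv hab'
  have hYY := horth e e Y Y hYv hYv
  have hVV := horth B' B' W' W' hce' hce'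
  have hYV := horth e B' Y W' hYv hce'
  have hXY := horth f e X Y hXv hYv
  have hXV := horth f B' X W' hXv hce'
  have hWY := horth B e W Y hab' hYv
  have hWV := horth B B' W W' hab' hce'
  rw [if_pos (IsConj.refl _), hCf] at hXX
  rw [if_pos (IsConj.refl _), hCB] at hWW
  rw [if_pos (IsConj.refl _), hCe] at hYY
  rw [if_pos (IsConj.refl _), hCB'] at hVV
  rw [if_neg hnfB] at hXW
  rw [if_neg hneB'] at hYV
  rw [if_neg hnfe] at hXY
  rw [if_neg hnfB'] at hXV
  rw [if_neg fun h => hneB h.symm] at hWY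
  rw [if_neg hnBB] at hWV
  have hdX := horth 1 f D X hDv hXv
  have hdW := horth 1 B D W hDv hab'
  have hdY := horth 1 e D Y hDv hYv
  have hdV := horth 1 B' D W' hDv hce'
  rw [if_neg (hn1 _ (hφ1 _ (by decide)))] at hdX
  rw [if_neg (hn1 _ hB1)] at hdW
  rw [if_neg (hn1 _ (hφ1 _ (by decide)))] at hdY
  rw [if_neg (hn1 _ hB'1)] at hdV
  have hdd := horth 1 1 D D hDv hDv
  rw [if_pos (IsConj.refl _), show Subgroup.centralizer ({1} : Set G) = ⊤ by
    ext x; simp [Subgroup.mem_centralizer_singleton_iff], Subgroup.card_top] at hdd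
  -- the trivial character
  have htriv : a (trivChar G) = 1 ∧ b (trivChar G) = 0 ∧ c (trivChar G) = 1 ∧ ee (trivChar G) = 0 ∧
      D (trivChar G) = 1 := by
    have h1 := hab (trivChar G)
    have h2 := hab' (trivChar G)
    have h3 := hce (trivChar G)
    have h4 := hce' (trivChar G)
    have h5 := hDv (trivChar G)
    simp only [trivChar_apply] at h1 h2 h3 h4 h5
    have h1' : (1 : ℤ) = a (trivChar G) + b (trivChar G) := by exact_mod_cast h1
    have h2' : (1 : ℤ) = a (trivChar G) - b (trivChar G) := by exact_mod_cast h2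
    have h3' : (1 : ℤ) = c (trivChar G) + ee (trivChar G) := by exact_mod_cast h3
    have h4' : (1 : ℤ) = c (trivChar G) - ee (trivChar G) := by exact_mod_cast h4
    have h5' : (1 : ℤ) = D (trivChar G) := by exact_mod_cast h5
    omega
  obtain ⟨ta, tb, tc, te, td⟩ := htriv
  set s := (Finset.univ : Finset (IrrCharacter G)).erase (trivChar G) with hs
  have hsplit : ∀ F' : IrrCharacter G → ℤ, ∑ χ ∈ s, F' χ = (∑ χ, F' χ) - F' (trivChar G) := fun F' => by
    rw [hs, Finset.sum_erase_eq_sub (Finset.mem_univ _)]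
  have hgram : gramOf (s.val.map row) = target := by
    simp only [gramOf, target, Gram.mk.injEq, Multiset.map_map, Function.comp_def]
    change ∑ χ ∈ s, _ = _ ∧ ∑ χ ∈ s, _ = _ ∧ ∑ χ ∈ s, _ = _ ∧ ∑ χ ∈ s, _ = _ ∧ ∑ χ ∈ s, _ = _ ∧
      ∑ χ ∈ s, _ = _ ∧ ∑ χ ∈ s, _ = _ ∧ ∑ χ ∈ s, _ = _ ∧ ∑ χ ∈ s, _ = _ ∧ ∑ χ ∈ s, _ = _
    simp only [hsplit, hrow, ta, tb, tc, te]
    simp only [hX, hW, hY, hW', mul_add, add_mul, mul_sub, sub_mul, Finset.sum_add_distrib, Finset.sum_sub_distrib] at hXX hWW hXW hYY hVV hYV hXY hXV hWY hWV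
    have cm : ∀ (A A' : IrrCharacter G → ℤ), ∑ χ, A χ * A' χ = ∑ χ, A' χ * A χ := fun A A' =>
      Finset.sum_congr rfl fun χ _ => mul_comm _ _
    rw [cm b a] at hXX hWW hXW
    rw [cm ee c] at hYY hVV hYV
    push_cast at hXX hWW hXW hYY hVV hYV hXY hXV hWY hWV
    refine ⟨?_, ?_, ?_, ?_, ?_, ?_, ?_, ?_, ?_, ?_⟩ <;> linarith
  have hdsum : (∑ χ, D χ * a χ = 0) ∧ (∑ χ, D χ * b χ = 0) ∧ (∑ χ, D χ * c χ = 0) ∧ (∑ χ, D χ * ee χ = 0) := by
    simp only [hX, hW, hY, hW', mul_add, mul_sub, Finset.sum_add_distrib, Finset.sum_sub_distrib] at hdX hdW hdY hdV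
    refine ⟨?_, ?_, ?_, ?_⟩ <;> linarith
  -- congruence modulo nine
  have h9 : ∀ χ : IrrCharacter G, ∃ m : ℤ, D χ + 4 * X χ + 4 * Y χ = 9 * m := by
    intro χ
    haveI := Fintype.ofFinite (T : Subgroup G)
    obtain ⟨m, hm⟩ := sum_subgroup χ (T : Subgroup G)
    have hb : Function.Bijective (fun v => (⟨F.φ v, F.mem_phi v⟩ : (T : Subgroup G))) :=
      ⟨fun u v h => F.inj (congrArg Subtype.val h), fun g => by
        obtain ⟨v, hv⟩ := (F.mem g).1 g.2
        exact ⟨v, Subtype.ext hv⟩⟩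
    have hv : ∀ v : V, (χ : G → ℂ) (F.φ v) =
        if v = 0 then (D χ : ℂ) else if v.1 = 0 ∨ v.2 = 0 then (X χ : ℂ) else (Y χ : ℂ) := by
      intro v
      split_ifs with h0 h12
      · rw [h0, F.zero, hDv]
      · rw [← hXv χ]
        refine (CfsgLib.CharDegree.apply_eq_of_isConj χ ((F.isConj_iff_act (by decide)).2 ?_)).symm
        exact (by decide : ∀ v : V, v ≠ 0 → (v.1 = 0 ∨ v.2 = 0) → ∃ x, act x ((1, 0) : V) = v) v h0 h12
      · rw [← hYv χ]
        refine (CfsgLib.CharDegree.apply_eq_of_isConj χ ((F.isConj_iff_act (by decide)).2 ?_)).symm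
        exact (by decide : ∀ v : V, v ≠ 0 → ¬ (v.1 = 0 ∨ v.2 = 0) → ∃ x, act x ((1, 1) : V) = v) v h0 h12
    rw [← Equiv.sum_comp (Equiv.ofBijective _ hb), F.card_T] at hm
    simp only [Equiv.ofBijective_apply, hv] at hm
    rw [Fintype.sum_prod_type] at hm
    have u3 : ∀ F' : ZMod 3 → ℂ, ∑ i, F' i = F' 0 + F' 1 + F' 2 := fun F' => Fin.sum_univ_three F'
    simp only [u3, Prod.mk_eq_zero] at hm
    norm_num [show (1 : ZMod 3) ≠ 0 by decide, show (2 : ZMod 3) ≠ 0 by decide] at hm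
    refine ⟨(m : ℤ), ?_⟩
    have h : ((D χ + 4 * X χ + 4 * Y χ : ℤ) : ℂ) = ((9 * (m : ℤ) : ℤ) : ℂ) := by
      push_cast; linear_combination hm
    exact_mod_cast h
  -- triangles
  have hGpos : (Nat.card G : ℂ) ≠ 0 := Nat.cast_ne_zero.mpr Nat.card_pos.ne'
  have hGq : (Nat.card G : ℚ) ≠ 0 := Nat.cast_ne_zero.mpr Nat.card_pos.ne'
  have hpairs : ∀ (t w : G) (A B : IrrCharacter G → ℤ) (m : ℕ), (∀ χ : IrrCharacter G, (χ : G → ℂ) t = A χ) →
      (∀ χ : IrrCharacter G, (χ : G → ℂ) w = B χ) →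
      Nat.card {p : G × G // p.1 * t * p.1⁻¹ * (p.2 * t * p.2⁻¹ * w⁻¹) = 1} = m →
      IsConj w w⁻¹ → ∑ χ, ((A χ * A χ * B χ : ℤ) : ℚ) / (D χ : ℚ) = (m : ℚ) / (Nat.card G : ℚ) := by
    intro t w A B m hA hB hm hw
    have h := CfsgLib.CharDegree.sum_three t t w⁻¹
    rw [hm] at h
    have hq : ((∑ χ, ((A χ * A χ * B χ : ℤ) : ℚ) / (D χ : ℚ) : ℚ) : ℂ) = (((m : ℚ) / (Nat.card G : ℚ) : ℚ) : ℂ) := by
      push_cast
      rw [eq_div_iff hGpos, mul_comm, ← h]
      congr 1
      refine Finset.sum_congr rfl fun χ _ => ?_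
      rw [CfsgLib.CharDegree.apply_eq_of_isConj χ hw.symm, hA, hB, hDv]
    exact_mod_cast hq
  have hT1 := hpairs f e X Y 648 hXv hYv (by
    rw [hf, he, F.card_triangles (by decide) (by decide) (by decide) (by decide), ← hf, hCf,
      Nat.card_eq_fintype_card]; rfl) hereal
  have hT2 := hpairs e f Y X 648 hYv hXv (by
    rw [hf, he, F.card_triangles (by decide) (by decide) (by decide) (by decide), ← he, hCe,
      Nat.card_eq_fintype_card]; rfl) hfreal
  -- the row hypotheses
  have hone : ∀ χ : IrrCharacter G, ((row χ).cubeOne : ℚ) / (D χ : ℚ) =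
      ((Y χ * Y χ * X χ : ℤ) : ℚ) / (D χ : ℚ) - ((X χ * X χ * Y χ : ℤ) : ℚ) / (D χ : ℚ) := fun χ => by
    simp only [hrow, hX, hY, Row.cubeOne]; push_cast; ring
  have htwo : ∀ χ : IrrCharacter G, ((row χ).cubeTwo : ℚ) / (D χ : ℚ) =
      ((Y χ * Y χ * X χ : ℤ) : ℚ) / (D χ : ℚ) + ((X χ * X χ * Y χ : ℤ) : ℚ) / (D χ : ℚ) := fun χ => by
    simp only [hrow, hX, hY, Row.cubeTwo]; push_cast; ring
  have hsys : RowHyp s D row (Nat.card G) := by
    refine ⟨h648, h720, fun χ hχ => ?_, ?_, fun χ _ => ?_, fun χ _ => ?_, hgram, ?_, ?_, ?_, ?_, ?_, ?_⟩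
    · have := two_le_degree hnc (χ := χ) (Finset.mem_erase.1 hχ).1
      simp only [hD]; omega
    · rw [hsplit, hdd, td]; omega
    · have h1 := hk χ
      have h2 := hk' χ
      simp only [hrow]
      omega
    · obtain ⟨m, hm⟩ := h9 χ
      have h1 := hk χ
      have h2 := hk' χ
      simp only [hrow, hX, hY, hD] at hm ⊢
      omega
    · rw [hsplit]; simp only [hrow, ta, td, hdsum.1]; norm_num
    · rw [hsplit]; simp only [hrow, tb, td, hdsum.2.1]; norm_num
    · rw [hsplit]; simp only [hrow, tc, td, hdsum.2.2.1]; norm_num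
    · rw [hsplit]; simp only [hrow, te, td, hdsum.2.2.2]; norm_num
    · rw [hs, Finset.sum_erase_eq_sub (Finset.mem_univ _), Finset.sum_congr rfl (fun χ _ => hone χ),
        Finset.sum_sub_distrib, hT1, hT2]
      simp [hrow, ta, tb, tc, te, Row.cubeOne]
    · rw [hs, Finset.sum_erase_eq_sub (Finset.mem_univ _), Finset.sum_congr rfl (fun χ _ => htwo χ),
        Finset.sum_add_distrib, hT1, hT2, ← add_div]
      simp [hrow, ta, tb, tc, te, td, Row.cubeTwo]
      norm_num
  rcases rows_conclusion hsys with h | ⟨h7, χ, hχs, hχ5, huniq⟩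
  · rcases Cfsg.Agent.S0496.result hnc (by omega) with e | e | e | e | e | e <;> omega
  refine not_seven_dvd (χ := χ) (Finset.mem_erase.1 hχs).1 (by simp only [hD] at hχ5; omega) (fun g m hm => ?_) h7
  let ψ : IrrCharacter G := ⟨fun g => (χ : G → ℂ) (g ^ m), isIrrCharacter_pow χ.2 hm⟩
  have hψD : D ψ = D χ := by
    have : ((D ψ : ℤ) : ℂ) = (D χ : ℂ) := by
      rw [← hDv, ← hDv]; show (χ : G → ℂ) (1 ^ m) = _; rw [one_pow]
    exact_mod_cast this
  have hψv : ∀ (x : G) (z : ℤ), (χ : G → ℂ) x = z → (ψ : G → ℂ) x = z := by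
    intro x z hz
    obtain ⟨d, ρ, -, hρ, -⟩ := CfsgLib.CharDegree.exists_rep χ
    show (χ : G → ℂ) (x ^ m) = z
    have := CfsgLib.CharRational.apply_pow_eq_of_eq_rat ρ x (q := (z : ℚ)) (by rw [hρ, hz]; simp) hm
    rw [hρ] at this
    rw [this]; simp
  have hψrow : row ψ = row χ := by
    have h1 := (hψv _ _ (hab χ)).symm.trans (hab ψ)
    have h2 := (hψv _ _ (hab' χ)).symm.trans (hab' ψ)
    have h3 := (hψv _ _ (hce χ)).symm.trans (hce ψ)
    have h4 := (hψv _ _ (hce' χ)).symm.trans (hce' ψ)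
    rw [Int.cast_inj] at h1 h2 h3 h4
    simp only [hrow, Row.mk.injEq]
    omega
  have hψs : ψ ∈ s := by
    refine Finset.mem_erase.2 ⟨fun hψ => ?_, Finset.mem_univ _⟩
    have := hsys.two_le χ hχs
    rw [← hψD, hψ, td] at this
    omega
  exact congrFun (congrArg Subtype.val (huniq ψ hψs hψD hψrow)) g

end CfsgLib.Recog.SelfCentNine
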