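import Cfsg.Agent.Lib.Recog.SelfCentNine.SimpleNormal
import Cfsg.Agent.Lib.Recog.SelfCentNine.Main
import Cfsg.Agent.Lib.Classical.SylowNineRecog
import Cfsg.Agent.S3805

/-!
# The part of the dihedral group inside a simple normal subgroup

It is cyclic of order four, and the normal subgroup is the alternating group of degree six.
-/

set_option autoImplicit false

namespace CfsgLib.Recog.SelfCentNine

/-- The normal subgroups of the dihedral group of order eight. -/
def normalParts : List (Finset (DihedralGroup 4)) :=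
  [{1}, {1, .r 2}, {1, .r 1, .r 2, .r 3}, {1, .r 2, .sr 0, .sr 2}, {1, .r 2, .sr 1, .sr 3}, Finset.univ]

set_option maxRecDepth 100000 in
set_option maxHeartbeats 4000000 in
theorem mem_normalParts : ∀ L ∈ (Finset.univ : Finset (DihedralGroup 4)).powerset,
    1 ∈ L → (∀ a ∈ L, ∀ b ∈ L, a * b ∈ L) → (∀ a ∈ L, ∀ g, g * a * g⁻¹ ∈ L) → L ∈ normalParts := by
  decide +kernel

theorem free_of_central : ∀ x ∈ ({1, .r 2} : Finset (DihedralGroup 4)), ∀ u : V, u ≠ 0 →
    act x u = u → x = 1 := by decide

theorem free_of_cyclic : ∀ x ∈ ({1, .r 1, .r 2, .r 3} : Finset (DihedralGroup 4)), ∀ u : V, u ≠ 0 →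
    act x u = u → x = 1 := by decide

theorem sq_of_klein_zero : ∀ x ∈ ({1, .r 2, .sr 0, .sr 2} : Finset (DihedralGroup 4)), x * x = 1 := by decide

theorem sq_of_klein_one : ∀ x ∈ ({1, .r 2, .sr 1, .sr 3} : Finset (DihedralGroup 4)), x * x = 1 := by decide

variable {G : Type*} [Group G] [Finite G] {T : Sylow 3 G} (F : Frame T)

namespace Frame

variable {K : Subgroup G} (hTK : (T : Subgroup G) ≤ K)

include F in
omit [Finite G] in
theorem mem_normalizer_subtype (k : K) :
    k ∈ Subgroup.normalizer ((T.subtype hTK : Subgroup K) : Set K) ↔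
      (k : G) ∈ Subgroup.normalizer ((T : Subgroup G) : Set G) := by
  constructor
  · intro hk
    refine Subgroup.mem_normalizer_iff.2 fun a => ⟨fun ha => ?_, fun ha => ?_⟩
    · exact ((Subgroup.mem_normalizer_iff.1 hk ⟨a, hTK ha⟩).1 ha :)
    · have haK : a ∈ K := by
        have := mul_mem (mul_mem (inv_mem k.2) (hTK ha)) k.2
        rwa [show (k : G)⁻¹ * ((k : G) * a * (k : G)⁻¹) * (k : G) = a by group] at this
      exact ((Subgroup.mem_normalizer_iff.1 hk ⟨a, haK⟩).2 ha :)
  · exact fun hk => Subgroup.mem_normalizer_iff.2 fun a => Subgroup.mem_normalizer_iff.1 hk (a : G)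

include F in
omit [Finite G] in
theorem iota_mem_of_decomp {k : K} {v : V} {x : DihedralGroup 4} (h : (k : G) = F.φ v * F.ι x)
    (hTK : (T : Subgroup G) ≤ K) : F.ι x ∈ K := by
  have := mul_mem (inv_mem (hTK (F.mem_phi v))) k.2
  rwa [h, inv_mul_cancel_left] at this

include F in
theorem card_normalizer_subtype (L : Finset (DihedralGroup 4)) (hL : ∀ x, F.ι x ∈ K ↔ x ∈ L) :
    Nat.card (Subgroup.normalizer ((T.subtype hTK : Subgroup K) : Set K)) = 9 * L.card := by
  have hmem : ∀ w : V × L, F.φ w.1 * F.ι w.2 ∈ K := fun w =>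
    mul_mem (hTK (F.mem_phi _)) ((hL _).2 w.2.2)
  have hb : Function.Bijective (fun w : V × L =>
      (⟨⟨F.φ w.1 * F.ι w.2, hmem w⟩, (F.mem_normalizer_subtype hTK _).2
        (mul_mem (F.mem_normalizer_phi _) (F.ι_mem _))⟩ :
        Subgroup.normalizer ((T.subtype hTK : Subgroup K) : Set K))) := by
    refine ⟨fun w w' e => ?_, fun k => ?_⟩
    · obtain ⟨h1, h2⟩ := F.word_inj (congrArg Subtype.val (congrArg Subtype.val e))
      exact Prod.ext h1 (Subtype.ext h2)
    · obtain ⟨v, x, hk⟩ := F.decomp _ ((F.mem_normalizer_subtype hTK _).1 k.2)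
      exact ⟨(v, ⟨x, (hL x).1 (F.iota_mem_of_decomp hk hTK)⟩), Subtype.ext (Subtype.ext hk.symm)⟩
  rw [← Nat.card_congr (Equiv.ofBijective _ hb), Nat.card_prod, Nat.card_prod, Nat.card_zmod,
    Nat.card_eq_fintype_card, Fintype.card_coe]

include F in
theorem recog_hyp (L : Finset (DihedralGroup 4)) (hL : ∀ x, F.ι x ∈ K ↔ x ∈ L)
    (hfree : ∀ x ∈ L, ∀ u : V, u ≠ 0 → act x u = u → x = 1) :
    CfsgLib.Classical.SylowNineRecog.Hyp (T.subtype hTK) where
  comm := fun a ha b hb => Subtype.ext (F.ab _ ha _ hb)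
  three := fun a ha => Subtype.ext (F.mem_three ha)
  card := by
    rw [show (T.subtype hTK : Subgroup K) = (T : Subgroup G).subgroupOf K from rfl,
      Nat.card_congr (Subgroup.subgroupOfEquivOfLe hTK).toEquiv, F.card_eq_nine]
  cen := fun a ha ha1 g hg => by
    have hga : (g : G) * (a : G) = (a : G) * (g : G) := congrArg Subtype.val hg
    obtain ⟨u, hu⟩ : ∃ u, F.φ u = (a : G) := (F.mem _).1 ha
    have hu0 : u ≠ 0 := fun e => ha1 (Subtype.ext (by rw [← hu, e, F.zero]; rfl))
    obtain ⟨v, x, hgv⟩ := F.decomp _ (F.loc _ (F.mem_phi u) (fun e => hu0 (F.inj (e.trans F.zero.symm))) (g : G)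
      (by rw [hu]; exact hga))
    have hfix : act x u = u := F.inj (by rw [← F.conj_word v, ← hgv, hu, hga, mul_inv_cancel_right])
    have hx := hfree x ((hL x).1 (F.iota_mem_of_decomp hgv hTK)) u hu0 hfix
    show (g : G) ∈ (T : Subgroup G)
    rw [hgv, hx, map_one, mul_one]
    exact F.mem_phi v

include F in
/-- The result of the case division. -/
theorem simple_cases (hK : K.Normal) (hKs : IsSimpleGroup K) (hnn : ¬ (T : Subgroup G).Normal)
    (hTK : (T : Subgroup G) ≤ K) :
    Nonempty (K ≃* alternatingGroup (Fin 6)) ∧ F.ι (.r 1) ∈ K ∧ F.ι (.sr 0) ∉ K := by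
  classical
  haveI : Fact (Nat.Prime 3) := ⟨Nat.prime_three⟩
  haveI := hK
  set TK := T.subtype hTK with hTKdef
  have hcard : Nat.card (TK : Subgroup K) = 9 := by
    rw [show (TK : Subgroup K) = (T : Subgroup G).subgroupOf K from rfl,
      Nat.card_congr (Subgroup.subgroupOfEquivOfLe hTK).toEquiv, F.card_eq_nine]
  have hKN : ¬ K ≤ Subgroup.normalizer ((T : Subgroup G) : Set G) := fun h =>
    hnn (F.normal_of_le_normalizer hK hTK h)
  have hnorm : Subgroup.normalizer ((TK : Subgroup K) : Set K) ≠ ⊤ := fun e => hKN fun k hk =>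
    (F.mem_normalizer_subtype hTK ⟨k, hk⟩).1 (by rw [← hTKdef, e]; trivial)
  set L := (Finset.univ : Finset (DihedralGroup 4)).filter fun x => F.ι x ∈ K with hLdef
  have hL : ∀ x, F.ι x ∈ K ↔ x ∈ L := fun x => by simp [hLdef]
  have hLmem : L ∈ normalParts := by
    refine mem_normalParts L (Finset.mem_powerset.2 (Finset.subset_univ _)) ?_ ?_ ?_
    · rw [← hL, map_one]; exact one_mem K
    · intro a ha b hb
      rw [← hL] at ha hb ⊢
      rw [map_mul]; exact mul_mem ha hb
    · intro a ha g
      rw [← hL] at ha ⊢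
      rw [map_mul, map_mul, map_inv]; exact hK.conj_mem _ ha _
  have hcardN := F.card_normalizer_subtype hTK L hL
  rw [← hTKdef] at hcardN
  simp only [normalParts, List.mem_cons, List.not_mem_nil, or_false] at hLmem
  rcases hLmem with h | h | h | h | h | h <;> rw [h] at hL hcardN
  · -- nothing: Burnside
    exfalso
    have hNT : Subgroup.normalizer ((TK : Subgroup K) : Set K) = (TK : Subgroup K) := by
      refine (Subgroup.eq_of_le_of_card_ge Subgroup.le_normalizer ?_).symm
      rw [hcardN, hcard]; rfl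
    have hP : Subgroup.normalizer ((TK : Subgroup K) : Set K) ≤ Subgroup.centralizer ((TK : Subgroup K) : Set K) := by
      rw [hNT]
      exact fun a ha => Subgroup.mem_centralizer_iff.2 fun b hb => Subtype.ext (F.ab _ hb _ ha)
    have hcomp := MonoidHom.ker_transferSylow_isComplement' TK hP
    rcases hKs.eq_bot_or_eq_top_of_normal _ (MonoidHom.normal_ker (MonoidHom.transferSylow TK hP)) with e | e
    · rw [e] at hcomp
      refine hnorm ?_
      rw [hNT]
      exact Subgroup.isComplement'_bot_left.1 hcomp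
    · rw [e] at hcomp
      rw [Subgroup.isComplement'_top_left.1 hcomp, Subgroup.card_bot] at hcard
      omega
  · exfalso
    haveI := hKs
    refine CfsgLib.Classical.SylowNineRecog.two_contra
      (F.recog_hyp hTK _ hL free_of_central) ?_
    rw [hcardN]; rfl
  · haveI := hKs
    refine ⟨CfsgLib.Classical.SylowNineRecog.four_iso (F.recog_hyp hTK _ hL free_of_cyclic) (by rw [hcardN]; rfl),
      (hL _).2 (by decide +kernel), fun hm => absurd ((hL _).1 hm) (by decide +kernel)⟩
  iterate 2
    exfalso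
    refine hnorm ((Cfsg.Agent.S3805.main TK _ rfl (fun a ha b hb => Subtype.ext (F.ab _ ha _ hb))
      (fun a ha => Subtype.ext (F.mem_three ha)) hcard (fun g hg => ?_) (fun k hk => ?_)
      (by rw [hcardN]; rfl) (fun a ha ha1 g hg => ?_)))
    · refine F.centralizer_mem fun a ha => mul_inv_eq_iff_eq_mul.1 ?_
      exact congrArg Subtype.val (hg ⟨a, hTK ha⟩ ha)
    · obtain ⟨v, x, hkv⟩ := F.decomp _ ((F.mem_normalizer_subtype hTK k).1 hk)
      have hx : x * x = 1 := by
        first
          | exact sq_of_klein_zero x ((hL x).1 (F.iota_mem_of_decomp hkv hTK))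
          | exact sq_of_klein_one x ((hL x).1 (F.iota_mem_of_decomp hkv hTK))
      show (k : G) * (k : G) ∈ (T : Subgroup G)
      rw [hkv, show F.φ v * F.ι x * (F.φ v * F.ι x) =
        F.φ v * (F.ι x * F.φ v * (F.ι x)⁻¹) * (F.ι x * F.ι x) by group, F.conj, ← map_mul, hx, map_one,
        mul_one]
      exact mul_mem (F.mem_phi _) (F.mem_phi _)
    · exact (F.mem_normalizer_subtype hTK g).2
        (F.loc _ ha (fun e => ha1 (Subtype.ext e)) _ (congrArg Subtype.val hg))
  · exfalso
    haveI := hKs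
    have hall : ∀ x, F.ι x ∈ K := fun x => (hL x).2 (Finset.mem_univ x)
    obtain ⟨FK⟩ := exists_frame TK hcard (fun a ha => Subtype.ext (F.mem_three ha))
      (fun a ha b hb => Subtype.ext (F.ab _ ha _ hb))
      (fun g hg => F.centralizer_mem fun a ha => mul_inv_eq_iff_eq_mul.1 (congrArg Subtype.val (hg ⟨a, hTK ha⟩ ha)))
      (fun a ha ha1 g hg => (F.mem_normalizer_subtype hTK g).2
        (F.loc _ ha (fun e => ha1 (Subtype.ext e)) _ (congrArg Subtype.val hg)))
      (fun n hn => by
        rw [hcardN, Finset.card_univ, DihedralGroup.card] at hn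
        by_contra hcon
        have h16 : 2 ^ 4 ∣ 9 * (2 * 4) := (pow_dvd_pow 2 (by omega : 4 ≤ n)).trans hn
        norm_num at h16)
      (F.ι.codRestrict K hall) (fun x y e => F.ι_inj (congrArg Subtype.val e))
      (fun x => (F.mem_normalizer_subtype hTK _).2 (F.ι_mem x))
    exact false_of_frame FK

end Frame

end CfsgLib.Recog.SelfCentNine
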