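import Mathlib.GroupTheory.Sylow
import Mathlib.Tactic.Group
import Mathlib.GroupTheory.OrderOfElement

/-!
# Triangles of elements of order three, with centralizers in the normalizer

In a group with an abelian Sylow 3-subgroup whose normalizer contains the centralizers of its non-identity
elements, `x ^ 3 = y ^ 3 = (x y) ^ 3 = 1` forces `x y = y x`, unless `x ~ y` and `x y ~ x⁻¹`.
-/

set_option autoImplicit false

namespace CfsgLib.Recog.SelfCentNine

variable {G : Type*} [Group G] [Finite G]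

/-- The `(3,3,3)` triangle lemma. -/
theorem triangle_local (T : Sylow 3 G)
    (hab : ∀ a ∈ (T : Subgroup G), ∀ b ∈ (T : Subgroup G), a * b = b * a)
    (hloc : ∀ a ∈ (T : Subgroup G), a ≠ 1 → ∀ g : G, g * a = a * g →
      g ∈ Subgroup.normalizer ((T : Subgroup G) : Set G))
    (hN3 : ∀ n ∈ Subgroup.normalizer ((T : Subgroup G) : Set G), n ^ 3 = 1 → n ∈ (T : Subgroup G))
    {x y : G} (hx3 : x ^ 3 = 1) (hy3 : y ^ 3 = 1) (hxy3 : (x * y) ^ 3 = 1) :
    Commute x y ∨ (IsConj y x ∧ IsConj (x * y) x⁻¹) := by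
  have : Fact (Nat.Prime 3) := ⟨Nat.prime_three⟩
  set z := x * y with hzdef
  have hxy : x * y = z := rfl
  have hz3 : x * y * (x * y) * (x * y) = 1 := by rw [← pow_two, ← pow_succ]; exact hxy3
  set u := x⁻¹ * y with hu
  set v := y * x⁻¹ with hv
  have hxi : x⁻¹ = x * x := inv_eq_of_mul_eq_one_right (by rw [← mul_assoc, ← pow_two, ← pow_succ]; exact hx3)
  have hyi : y⁻¹ = y * y := inv_eq_of_mul_eq_one_right (by rw [← mul_assoc, ← pow_two, ← pow_succ]; exact hy3)
  have hxyx : x * y * x = y⁻¹ * x⁻¹ * y⁻¹ := by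
    calc x * y * x = (x * y * (x * y) * (x * y)) * (y⁻¹ * x⁻¹ * y⁻¹) := by group
      _ = _ := by rw [hz3, one_mul]
  have huv : u * v = x⁻¹ * y⁻¹ * x⁻¹ := by
    rw [hu, hv, hyi]; group
  have hvu : v * u = x⁻¹ * y⁻¹ * x⁻¹ := by
    calc v * u = y * (x * x)⁻¹ * y := by rw [hu, hv]; group
      _ = y * x * y := by rw [← hxi, inv_inv]
      _ = x⁻¹ * (x * y * x * y) := by group
      _ = x⁻¹ * (y⁻¹ * x⁻¹ * y⁻¹ * y) := by rw [hxyx]
      _ = _ := by group
  have hcomm : Commute u v := huv.trans hvu.symm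
  have hxu : x * u * x⁻¹ = v := by rw [hu, hv]; group
  have hxx : x⁻¹ * x⁻¹ = x := by rw [← mul_inv_rev, ← hxi, inv_inv]
  have hxv : x * v * x⁻¹ = (u * v)⁻¹ := by
    rw [huv]
    calc x * v * x⁻¹ = x * y * (x⁻¹ * x⁻¹) := by rw [hv]; group
      _ = x * y * x := by rw [hxx]
      _ = _ := by group
  have hy : y = x * u := by rw [hu]; group
  have hix : x⁻¹ * u * x = (u * v)⁻¹ := by
    calc x⁻¹ * u * x = (x * x) * u * (x⁻¹ * x⁻¹) := by rw [← hxi, hxx]
      _ = x * (x * u * x⁻¹) * x⁻¹ := by simp only [mul_assoc]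
      _ = _ := by rw [hxu, hxv]
  by_cases h3 : 3 ∣ orderOf u
  · left
    set w := u ^ (orderOf u / 3) with hw
    have hwo : orderOf w = 3 := by
      rw [hw]; exact orderOf_pow_orderOf_div (orderOf_pos u).ne' h3
    have hw3 : w ^ 3 = 1 := hwo ▸ pow_orderOf_eq_one w
    have hw1 : w ≠ 1 := fun h => by rw [h, orderOf_one] at hwo; omega
    set w' := v ^ (orderOf u / 3) with hw'
    have hxw : x * w * x⁻¹ = w' := by rw [hw, ← conj_pow, hxu]
    have hxw' : x * w' * x⁻¹ = (w * w')⁻¹ := by rw [hw', ← conj_pow, hxv, inv_pow, hcomm.mul_pow]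
    have hww : Commute w w' := hcomm.pow_pow _ _
    have hw'3 : w' ^ 3 = 1 := by rw [← hxw, conj_pow, hw3, mul_one, mul_inv_cancel]
    set E := Subgroup.closure ({w, w'} : Set G) with hE
    haveI : IsMulCommutative E := Subgroup.isMulCommutative_closure (by
      rintro p (rfl | rfl) q (rfl | rfl)
      exacts [rfl, hww.eq, hww.eq.symm, rfl])
    have hEp : IsPGroup 3 E := by
      intro p
      refine ⟨1, Subtype.ext ?_⟩
      obtain ⟨p, hp⟩ := p
      show p ^ 3 ^ 1 = 1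
      rw [pow_one]
      induction hp using Subgroup.closure_induction with
      | mem q hq => rcases hq with rfl | rfl; exacts [hw3, hw'3]
      | one => exact one_pow 3
      | mul p q hp hq ihp ihq =>
        rw [(show Commute p q from congrArg Subtype.val (IsMulCommutative.is_comm.comm (⟨p, hp⟩ : E) ⟨q, hq⟩)).mul_pow,
          ihp, ihq, mul_one]
      | inv p hp ihp => rw [inv_pow, ihp, inv_one]
    have hxE : ∀ p ∈ E, x * p * x⁻¹ ∈ E := by
      intro p hp
      have hsub : E ≤ E.comap (MulAut.conj x).toMonoidHom := by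
        rw [hE, Subgroup.closure_le]
        rintro q (rfl | rfl)
        · show x * w * x⁻¹ ∈ E
          rw [hxw]; exact Subgroup.subset_closure (by simp)
        · show x * w' * x⁻¹ ∈ E
          rw [hxw']; exact inv_mem (mul_mem (Subgroup.subset_closure (by simp)) (Subgroup.subset_closure (by simp)))
      exact hsub hp
    have hxN' : Subgroup.zpowers x ≤ Subgroup.normalizer (E : Set G) := by
      rw [Subgroup.zpowers_le]
      refine Subgroup.mem_normalizer_iff.mpr fun p => ⟨hxE p, fun hp => ?_⟩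
      have h2 := hxE _ (hxE _ hp)
      rwa [show x * (x * (x * p * x⁻¹) * x⁻¹) * x⁻¹ = x ^ 3 * p * (x ^ 3)⁻¹ by
        rw [pow_succ, pow_two]; group, hx3, one_mul, inv_one,
        mul_one] at h2
    have hxp : IsPGroup 3 (Subgroup.zpowers x) := by
      rintro ⟨p, hp⟩
      obtain ⟨k, rfl⟩ := Subgroup.mem_zpowers_iff.mp hp
      refine ⟨1, Subtype.ext ?_⟩
      show (x ^ k) ^ (3 ^ 1) = 1
      rw [pow_one, ← zpow_natCast, ← zpow_mul, mul_comm, zpow_mul, zpow_natCast, hx3, one_zpow]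
    obtain ⟨R, hR⟩ := (hxp.to_sup_of_normal_right' hEp hxN').exists_le_sylow
    obtain ⟨c, hc⟩ := MulAction.exists_smul_eq G T R
    have hRmem : ∀ p, p ∈ (R : Subgroup G) → c⁻¹ * p * c ∈ (T : Subgroup G) := by
      intro p hp
      rw [← hc] at hp
      obtain ⟨q, hq, rfl⟩ := hp
      show c⁻¹ * (c * q * c⁻¹) * c ∈ (T : Subgroup G)
      have e : c⁻¹ * (c * q * c⁻¹) * c = q := by group
      rw [e]; exact hq
    have hwR := hRmem w (hR (Subgroup.mem_sup_right (Subgroup.subset_closure (by simp))))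
    have hxR := hRmem x (hR (Subgroup.mem_sup_left (Subgroup.mem_zpowers x)))
    have hwn : c⁻¹ * w * c ≠ 1 := fun h => hw1 (by
      calc w = c * (c⁻¹ * w * c) * c⁻¹ := by group
        _ = 1 := by rw [h]; group)
    have huN : c⁻¹ * u * c ∈ Subgroup.normalizer ((T : Subgroup G) : Set G) := by
      refine hloc _ hwR hwn _ ?_
      calc c⁻¹ * u * c * (c⁻¹ * w * c) = c⁻¹ * (u * w) * c := by group
        _ = c⁻¹ * (w * u) * c := by rw [(Commute.pow_right (Commute.refl u) _).eq]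
        _ = _ := by group
    have hyR : c⁻¹ * y * c ∈ (T : Subgroup G) := by
      refine hN3 _ ?_ ?_
      · rw [hy, show c⁻¹ * (x * u) * c = (c⁻¹ * x * c) * (c⁻¹ * u * c) by group]
        exact mul_mem (Subgroup.le_normalizer hxR) huN
      · have hcp := conj_pow (i := 3) (a := c⁻¹) (b := y)
        rw [inv_inv] at hcp
        rw [hcp, hy3, mul_one, inv_mul_cancel]
    have h1 := hab _ hxR _ hyR
    show x * y = y * x
    calc x * y = c * ((c⁻¹ * x * c) * (c⁻¹ * y * c)) * c⁻¹ := by group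
      _ = c * ((c⁻¹ * y * c) * (c⁻¹ * x * c)) * c⁻¹ := by rw [h1]
      _ = y * x := by group
  · right
    obtain ⟨k, hk⟩ : ∃ k, (u ^ 3) ^ k = u := exists_pow_eq_self_of_coprime
      ((Nat.prime_three.coprime_iff_not_dvd).mpr h3)
    constructor
    · symm
      refine isConj_iff.mpr ⟨(v * u⁻¹) ^ k, ?_⟩
      have h1 : x⁻¹ * (v * u⁻¹) * x = u ^ 2 * v := by
        calc x⁻¹ * (v * u⁻¹) * x = (x⁻¹ * v * x) * (x⁻¹ * u * x)⁻¹ := by group
          _ = u * (u * v) := by rw [hix, inv_inv, show x⁻¹ * v * x = u by rw [← hxu]; group]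
          _ = u ^ 2 * v := by rw [pow_two]; exact (mul_assoc u u v).symm
      have h2 : x⁻¹ * (v * u⁻¹) ^ k * x = (u ^ 2 * v) ^ k := by
        have := conj_pow (i := k) (a := x⁻¹) (b := v * u⁻¹)
        rw [inv_inv] at this
        rw [← this, h1]
      have h3' : (u ^ 2 * v) ^ k * ((v * u⁻¹) ^ k)⁻¹ = u := by
        have hc1 : Commute (u ^ 2 * v) (v * u⁻¹)⁻¹ :=
          ((((hcomm.pow_left 2).mul_left (Commute.refl v)).mul_right
            ((((Commute.refl u).pow_left 2).mul_left hcomm.symm).inv_right))).inv_right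
        rw [← inv_pow, ← hc1.mul_pow]
        conv_rhs => rw [← hk]
        congr 1
        rw [mul_inv_rev, inv_inv]
        calc u ^ 2 * v * (u * v⁻¹) = u ^ 2 * (v * u) * v⁻¹ := by group
          _ = u ^ 2 * (u * v) * v⁻¹ := by rw [hcomm.eq]
          _ = u ^ 3 := by group
      calc (v * u⁻¹) ^ k * x * ((v * u⁻¹) ^ k)⁻¹
          = x * ((x⁻¹ * (v * u⁻¹) ^ k * x) * ((v * u⁻¹) ^ k)⁻¹) := by group
        _ = y := by rw [h2, h3', hy]
    · symm
      refine isConj_iff.mpr ⟨((u ^ 2 * v) ^ k)⁻¹, ?_⟩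
      have h1 : x * (u ^ 2 * v) * x⁻¹ = v * u⁻¹ := by
        calc x * (u ^ 2 * v) * x⁻¹ = (x * u * x⁻¹) * (x * u * x⁻¹) * (x * v * x⁻¹) := by rw [pow_two]; group
          _ = v * v * (u * v)⁻¹ := by rw [hxu, hxv]
          _ = v * u⁻¹ := by group
      have h2 : x * ((u ^ 2 * v) ^ k)⁻¹ * x⁻¹ = ((v * u⁻¹) ^ k)⁻¹ := by
        rw [← inv_pow, ← conj_pow, ← inv_pow]
        congr 1
        rw [← h1]; group
      have hc1 : Commute (v * u⁻¹) (u ^ 2 * v) :=
        ((hcomm.symm.pow_right 2).mul_right (Commute.refl v)).mul_left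
          ((((Commute.refl u).pow_right 2).mul_right hcomm).inv_left)
      have h3' : ((v * u⁻¹) ^ k)⁻¹ * (u ^ 2 * v) ^ k = u := by
        rw [← inv_pow, ← hc1.inv_left.mul_pow]
        conv_rhs => rw [← hk]
        congr 1
        rw [(hcomm.pow_left 2).eq, mul_inv_rev, inv_inv, mul_assoc u v⁻¹, inv_mul_cancel_left, ← pow_succ']
      have hzu : z = x⁻¹ * u := by
        rw [hu, ← mul_assoc, hxx, hxy]
      calc ((u ^ 2 * v) ^ k)⁻¹ * x⁻¹ * ((u ^ 2 * v) ^ k)⁻¹⁻¹
          = x⁻¹ * ((x * ((u ^ 2 * v) ^ k)⁻¹ * x⁻¹) * (u ^ 2 * v) ^ k) := by group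
        _ = z := by rw [h2, h3', hzu]

end CfsgLib.Recog.SelfCentNine
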