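import Cfsg.Agent.Lib.Recog.SelfCentNine.Frame
import Cfsg.Agent.Lib.Recog.SelfCentNine.Triangle

/-!
# Classes, centralizers and triangles in the frame
-/

set_option autoImplicit false

namespace CfsgLib.Recog.SelfCentNine

variable {G : Type*} [Group G] [Finite G] {T : Sylow 3 G} (F : Frame T)

namespace Frame

omit [Finite G] in
theorem zero : F.φ 0 = 1 := by
  have e := F.add 0 0; rw [add_zero] at e; exact mul_eq_left.1 e.symm

omit [Finite G] in
theorem neg (v : V) : F.φ (-v) = (F.φ v)⁻¹ :=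
  eq_inv_of_mul_eq_one_left (by rw [← F.add, neg_add_cancel, F.zero])

omit [Finite G] in
theorem mem_phi (v : V) : F.φ v ∈ (T : Subgroup G) := (F.mem _).2 ⟨v, rfl⟩

omit [Finite G] in
theorem mem_normalizer_phi (v : V) : F.φ v ∈ Subgroup.normalizer ((T : Subgroup G) : Set G) :=
  Subgroup.le_normalizer (F.mem_phi v)

omit [Finite G] in
theorem comm (u v : V) : F.φ u * F.φ v = F.φ v * F.φ u := by rw [← F.add, ← F.add, add_comm]

omit [Finite G] in
theorem phi_cube (v : V) : F.φ v ^ 3 = 1 := by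
  have key : ∀ w : V, w + w + w = 0 := by decide
  rw [pow_three', ← F.add, ← F.add, key, F.zero]

omit [Finite G] in
include F in
theorem ab : ∀ a ∈ (T : Subgroup G), ∀ b ∈ (T : Subgroup G), a * b = b * a := by
  intro a ha b hb
  obtain ⟨u, rfl⟩ := (F.mem a).1 ha
  obtain ⟨v, rfl⟩ := (F.mem b).1 hb
  exact F.comm u v

omit [Finite G] in
theorem conj_phi (v u : V) : F.φ v * F.φ u * (F.φ v)⁻¹ = F.φ u := by
  rw [F.comm v u, mul_inv_cancel_right]

omit [Finite G] in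
theorem conj_word (v u : V) (x : DihedralGroup 4) :
    F.φ v * F.ι x * F.φ u * (F.φ v * F.ι x)⁻¹ = F.φ (act x u) := by
  rw [show F.φ v * F.ι x * F.φ u * (F.φ v * F.ι x)⁻¹ = F.φ v * (F.ι x * F.φ u * (F.ι x)⁻¹) * (F.φ v)⁻¹ by
    group, F.conj, F.conj_phi]

omit [Finite G] in
theorem word_inj {v v' : V} {x x' : DihedralGroup 4} (e : F.φ v * F.ι x = F.φ v' * F.ι x') :
    v = v' ∧ x = x' := by
  have e2 : F.ι (x * x'⁻¹) = F.φ (-v + v') := by
    rw [map_mul, map_inv, F.add, F.neg, eq_inv_mul_iff_mul_eq, ← mul_assoc, mul_inv_eq_iff_eq_mul, e]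
  have h4 : F.ι (x * x'⁻¹) ^ 3 = 1 := e2 ▸ F.phi_cube _
  rw [← map_pow, ← map_one F.ι] at h4
  have key : ∀ y : DihedralGroup 4, y * y * y = 1 → y = 1 := by decide
  have h5 : x * x'⁻¹ = 1 := key _ (by rw [← pow_three']; exact F.ι_inj h4)
  rw [mul_inv_eq_one] at h5
  subst h5
  exact ⟨F.inj (mul_right_cancel e), rfl⟩

include F in
theorem three_mem {n : G} (hn : n ∈ Subgroup.normalizer ((T : Subgroup G) : Set G)) (h : n ^ 3 = 1) :
    n ∈ (T : Subgroup G) := by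
  haveI : Fact (Nat.Prime 3) := ⟨Nat.prime_three⟩
  have hp : IsPGroup 3 (Subgroup.zpowers n) := by
    rintro ⟨p, hp⟩
    obtain ⟨k, rfl⟩ := Subgroup.mem_zpowers_iff.mp hp
    refine ⟨1, Subtype.ext ?_⟩
    show (n ^ k) ^ (3 ^ 1) = 1
    rw [pow_one, ← zpow_natCast, ← zpow_mul, mul_comm, zpow_mul, zpow_natCast, h, one_zpow]
  rw [← T.is_maximal' (hp.to_sup_of_normal_right' T.isPGroup' (Subgroup.zpowers_le.mpr hn)) le_sup_right]
  exact Subgroup.mem_sup_left (Subgroup.mem_zpowers n)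

include F in
theorem mem_normalizer_of_conj {g a : G} (ha : a ∈ (T : Subgroup G)) (ha1 : a ≠ 1)
    (hga : g * a * g⁻¹ ∈ (T : Subgroup G)) :
    g ∈ Subgroup.normalizer ((T : Subgroup G) : Set G) := by
  have hne : g * a * g⁻¹ ≠ 1 := fun e => ha1 (conj_eq_one_iff.1 e)
  have hmap : ∀ s ∈ (T : Subgroup G), g * s * g⁻¹ ∈ (T : Subgroup G) := fun s hs => by
    refine F.three_mem (F.loc _ hga hne _ ?_) ?_
    · calc g * s * g⁻¹ * (g * a * g⁻¹) = g * (s * a) * g⁻¹ := by group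
        _ = g * (a * s) * g⁻¹ := by rw [F.ab s hs a ha]
        _ = g * a * g⁻¹ * (g * s * g⁻¹) := by group
    · obtain ⟨v, rfl⟩ := (F.mem s).1 hs
      rw [conj_pow, F.phi_cube, mul_one, mul_inv_cancel]
  have heq : (T : Subgroup G).map (MulAut.conj g).toMonoidHom = (T : Subgroup G) := by
    refine Subgroup.eq_of_le_of_card_ge ?_
      (Subgroup.card_map_of_injective (MulAut.conj g).injective).ge
    rintro _ ⟨s, hs, rfl⟩
    exact hmap s hs
  refine Subgroup.mem_normalizer_iff.2 fun e => ⟨hmap e, fun he => ?_⟩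
  have he' : g * e * g⁻¹ ∈ (T : Subgroup G).map (MulAut.conj g).toMonoidHom := by rwa [heq]
  obtain ⟨e', he'', hee⟩ := he'
  have : e' = e := (MulAut.conj g).injective hee
  exact this ▸ he''

theorem isConj_iff_act {u v : V} (hu : u ≠ 0) : IsConj (F.φ u) (F.φ v) ↔ ∃ x, act x u = v := by
  constructor
  · intro h
    obtain ⟨g, hg⟩ := isConj_iff.1 h
    have hg' := F.mem_normalizer_of_conj (g := g) (F.mem_phi u)
      (fun e => hu (F.inj (e.trans F.zero.symm))) (hg ▸ F.mem_phi v)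
    obtain ⟨w, x, rfl⟩ := F.decomp g hg'
    exact ⟨x, F.inj (by rw [← F.conj_word w, hg])⟩
  · rintro ⟨x, rfl⟩
    exact isConj_iff.2 ⟨F.ι x, F.conj x u⟩

/-- The order of the centralizer of `ι x₀ * φ v₀`. -/
theorem card_centralizer (x₀ : DihedralGroup 4) (v₀ : V) (hx : x₀ * x₀ = 1) (hv : v₀ ≠ 0)
    (hfix : act x₀ v₀ = v₀) (hcomm : ∀ x, act x v₀ = v₀ → x * x₀ = x₀ * x) :
    Nat.card (Subgroup.centralizer ({F.ι x₀ * F.φ v₀} : Set G)) =
      Nat.card {v : V // act x₀ v = v} * Nat.card {x : DihedralGroup 4 // act x v₀ = v₀} := by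
  have hcf : ∀ v, act x₀ v = v → Commute (F.ι x₀) (F.φ v) := fun v h => by
    have := F.conj x₀ v
    rw [h] at this
    exact mul_inv_eq_iff_eq_mul.1 this
  have hfwd : ∀ (v : {v : V // act x₀ v = v}) (x : {x : DihedralGroup 4 // act x v₀ = v₀}),
      F.φ v * F.ι x ∈ Subgroup.centralizer ({F.ι x₀ * F.φ v₀} : Set G) := by
    rintro ⟨v, hv'⟩ ⟨x, hx'⟩
    rw [Subgroup.mem_centralizer_singleton_iff]
    have h1 : Commute (F.ι x) (F.φ v₀) := by
      have := F.conj x v₀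
      rw [hx'] at this
      exact mul_inv_eq_iff_eq_mul.1 this
    have h2 : Commute (F.ι x) (F.ι x₀) := (show Commute x x₀ from hcomm x hx').map F.ι
    have h3 : Commute (F.φ v) (F.φ v₀) := F.comm v v₀
    exact ((hcf v hv').symm.mul_right h3).mul_left (h2.mul_right h1)
  rw [← Nat.card_prod]
  refine (Nat.card_congr (Equiv.ofBijective (fun w => ⟨F.φ w.1 * F.ι w.2, hfwd w.1 w.2⟩)
    ⟨fun w w' e => ?_, fun g => ?_⟩)).symm
  · obtain ⟨h1, h2⟩ := F.word_inj (congrArg Subtype.val e)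
    exact Prod.ext (Subtype.ext h1) (Subtype.ext h2)
  · obtain ⟨g, hg⟩ := g
    rw [Subgroup.mem_centralizer_singleton_iff] at hg
    have hg' : Commute g (F.ι x₀ * F.φ v₀) := hg
    have h4 : (F.ι x₀ * F.φ v₀) ^ 4 = F.φ v₀ := by
      rw [(hcf v₀ hfix).mul_pow, ← map_pow, show x₀ ^ 4 = 1 by
        exact (pow_mul x₀ 2 2).trans (by rw [pow_two x₀, hx, one_pow]), map_one, one_mul,
        pow_succ, F.phi_cube, one_mul]
    have hgv : Commute g (F.φ v₀) := h4 ▸ hg'.pow_right 4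
    obtain ⟨w, x, rfl⟩ := F.decomp g (F.loc _ (F.mem_phi v₀) (fun e => hv (F.inj (e.trans F.zero.symm))) g hgv)
    have hxv : act x v₀ = v₀ := F.inj (by rw [← F.conj_word w, mul_inv_eq_iff_eq_mul]; exact hgv)
    have hgx : Commute (F.φ w * F.ι x) (F.ι x₀) := by
      have := hg'.mul_right hgv.inv_right
      rwa [mul_inv_cancel_right] at this
    have h2 : Commute (F.ι x) (F.ι x₀) := (show Commute x x₀ from hcomm x hxv).map F.ι
    have hw : Commute (F.φ w) (F.ι x₀) := by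
      have := hgx.mul_left h2.inv_left
      rwa [mul_inv_cancel_right] at this
    have hw' : act x₀ w = w := F.inj (by rw [← F.conj, ← hw.eq, mul_inv_cancel_right])
    exact ⟨(⟨w, hw'⟩, ⟨x, hxv⟩), rfl⟩

/-- The number of triangles. -/
theorem card_triangles {u w : V} (hu : u ≠ 0) (hw : w ≠ 0) (hne : ∀ x, act x u ≠ w)
    (hreal : ∃ x, act x u = -u) :
    Nat.card {p : G × G // p.1 * F.φ u * p.1⁻¹ * (p.2 * F.φ u * p.2⁻¹ * (F.φ w)⁻¹) = 1} =
      Nat.card {k : V × V // k.1 + k.2 = w ∧ (∃ x, act x u = k.1) ∧ ∃ x, act x u = k.2} *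
        (Nat.card (Subgroup.centralizer ({F.φ u} : Set G)) *
          Nat.card (Subgroup.centralizer ({F.φ u} : Set G))) := by
  classical
  haveI := Fintype.ofFinite G
  set A := fun v : V => {p : G // p * F.φ u * p⁻¹ = F.φ v}
  set K := {k : V × V // k.1 + k.2 = w ∧ (∃ x, act x u = k.1) ∧ ∃ x, act x u = k.2}
  have hfwd : ∀ s : Σ k : K, A k.1.1 × A k.1.2,
      s.2.1.1 * F.φ u * s.2.1.1⁻¹ * (s.2.2.1 * F.φ u * s.2.2.1⁻¹ * (F.φ w)⁻¹) = 1 := by
    rintro ⟨⟨k, hk, -, -⟩, ⟨p, hp⟩, ⟨q, hq⟩⟩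
    show p * F.φ u * p⁻¹ * (q * F.φ u * q⁻¹ * (F.φ w)⁻¹) = 1
    rw [hp, hq, ← mul_assoc, ← F.add, hk, mul_inv_cancel]
  have hbij : Function.Bijective (fun s : Σ k : K, A k.1.1 × A k.1.2 =>
      (⟨(s.2.1.1, s.2.2.1), hfwd s⟩ :
        {p : G × G // p.1 * F.φ u * p.1⁻¹ * (p.2 * F.φ u * p.2⁻¹ * (F.φ w)⁻¹) = 1})) := by
    refine ⟨?_, ?_⟩
    · rintro ⟨k, ⟨p, hp⟩, ⟨q, hq⟩⟩ ⟨k', ⟨p', hp'⟩, ⟨q', hq'⟩⟩ e
      simp only [Subtype.mk.injEq, Prod.mk.injEq] at e
      obtain ⟨rfl, rfl⟩ := e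
      obtain rfl : k = k' := Subtype.ext (Prod.ext (F.inj (hp.symm.trans hp')) (F.inj (hq.symm.trans hq')))
      rfl
    · rintro ⟨⟨p, q⟩, h⟩
      set x := p * F.φ u * p⁻¹ with hxdef
      set y := q * F.φ u * q⁻¹ with hydef
      have hxy : x * y = F.φ w := by rwa [← mul_assoc, mul_inv_eq_one] at h
      have hx3 : x ^ 3 = 1 := by rw [hxdef, conj_pow, F.phi_cube, mul_one, mul_inv_cancel]
      have hy3 : y ^ 3 = 1 := by rw [hydef, conj_pow, F.phi_cube, mul_one, mul_inv_cancel]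
      rcases triangle_local T F.ab F.loc (fun n hn => F.three_mem hn) hx3 hy3 (hxy ▸ F.phi_cube w) with hc | ⟨-, hc⟩
      swap
      · exfalso
        rw [hxy] at hc
        have h1 : IsConj (F.φ u) x := isConj_iff.2 ⟨p, rfl⟩
        have h2 : IsConj (F.φ (-u)) x⁻¹ := by
          rw [F.neg]
          obtain ⟨c, hc'⟩ := isConj_iff.1 h1
          exact isConj_iff.2 ⟨c, by rw [← hc']; group⟩
        obtain ⟨x', hx'⟩ := (F.isConj_iff_act hu).1
          (((F.isConj_iff_act hu).2 hreal).trans (h2.trans hc.symm))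
        exact hne x' hx'
      have hw1 : F.φ w ≠ 1 := fun e => hw (F.inj (e.trans F.zero.symm))
      have hxT : x ∈ (T : Subgroup G) := F.three_mem (F.loc _ (F.mem_phi w) hw1 _ (by
        rw [← hxy]
        show Commute x (x * y)
        exact (Commute.refl x).mul_right hc)) hx3
      have hyT : y ∈ (T : Subgroup G) := F.three_mem (F.loc _ (F.mem_phi w) hw1 _ (by
        rw [← hxy]
        show Commute y (x * y)
        exact hc.symm.mul_right (Commute.refl y))) hy3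
      obtain ⟨k1, hk1⟩ := (F.mem _).1 hxT
      obtain ⟨k2, hk2⟩ := (F.mem _).1 hyT
      have hk : k1 + k2 = w := F.inj (by rw [F.add, hk1, hk2, hxy])
      exact ⟨⟨⟨(k1, k2), hk, (F.isConj_iff_act hu).1 (isConj_iff.2 ⟨p, hk1.symm⟩),
        (F.isConj_iff_act hu).1 (isConj_iff.2 ⟨q, hk2.symm⟩)⟩, ⟨p, hk1.symm⟩, ⟨q, hk2.symm⟩⟩, rfl⟩
  have hA : ∀ v, (∃ x, act x u = v) → Nat.card (A v) = Nat.card (Subgroup.centralizer ({F.φ u} : Set G)) := by
    rintro v ⟨x, rfl⟩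
    refine Nat.card_congr
      { toFun := fun p => ⟨(F.ι x)⁻¹ * p.1, Subgroup.mem_centralizer_singleton_iff.2 ?_⟩
        invFun := fun c => ⟨F.ι x * c.1, ?_⟩
        left_inv := fun p => Subtype.ext (mul_inv_cancel_left _ _)
        right_inv := fun c => Subtype.ext (inv_mul_cancel_left _ _) }
    · have e : p.1 * F.φ u = F.ι x * F.φ u * (F.ι x)⁻¹ * p.1 := by
        rw [F.conj]; exact mul_inv_eq_iff_eq_mul.1 p.2
      rw [mul_assoc, e]; group
    · have hc := Subgroup.mem_centralizer_singleton_iff.1 c.2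
      rw [mul_inv_eq_iff_eq_mul, ← F.conj, mul_assoc (F.ι x), hc]; group
  rw [← Nat.card_congr (Equiv.ofBijective _ hbij), Nat.card_sigma]
  simp only [Nat.card_prod, hA _ (Subtype.prop (_ : K)).2.1, hA _ (Subtype.prop (_ : K)).2.2, Finset.sum_const,
    Finset.card_univ, smul_eq_mul, Nat.card_eq_fintype_card (α := K)]

end Frame

end CfsgLib.Recog.SelfCentNine
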