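import Mathlib.GroupTheory.Sylow
import Mathlib.GroupTheory.SpecificGroups.Dihedral
import Mathlib.LinearAlgebra.Matrix.GeneralLinearGroup.Card
import Mathlib.Tactic

/-!
# A self-centralizing elementary Sylow 3-subgroup of order nine with dihedral automizer

`exists_frame`: coordinates `φ` on the Sylow subgroup in which the dihedral group of order eight
acts monomially, and the normalizer is the product of the two.
-/

set_option autoImplicit false

namespace CfsgLib.Recog.SelfCentNine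

/-- The plane of three elements squared. -/
abbrev V : Type := ZMod 3 × ZMod 3

/-- The rotation of the plane. -/
def rot (v : V) : V := (v.2, -v.1)

/-- The monomial action of the dihedral group on the plane. -/
def act : DihedralGroup 4 → V → V
  | .r k, v => rot^[k.val] v
  | .sr k, v => ((rot^[k.val] v).1, -(rot^[k.val] v).2)

/-- The coordinates and what is known about them. -/
structure Frame {G : Type*} [Group G] (T : Sylow 3 G) where
  φ : V → G
  ι : DihedralGroup 4 →* G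
  inj : Function.Injective φ
  ι_inj : Function.Injective ι
  mem : ∀ g, g ∈ (T : Subgroup G) ↔ ∃ v, φ v = g
  add : ∀ u v, φ (u + v) = φ u * φ v
  conj : ∀ x v, ι x * φ v * (ι x)⁻¹ = φ (act x v)
  ι_mem : ∀ x, ι x ∈ Subgroup.normalizer ((T : Subgroup G) : Set G)
  decomp : ∀ g ∈ Subgroup.normalizer ((T : Subgroup G) : Set G), ∃ v x, g = φ v * ι x
  loc : ∀ a ∈ (T : Subgroup G), a ≠ 1 → ∀ g : G, g * a = a * g →
    g ∈ Subgroup.normalizer ((T : Subgroup G) : Set G)

variable {G : Type*} [Group G] [Finite G]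

theorem pow_val_add {a : G} (ha : a ^ 3 = 1) (i j : ZMod 3) :
    a ^ (i + j).val = a ^ i.val * a ^ j.val := by
  rw [ZMod.val_add, ← pow_add]
  conv_rhs => rw [← Nat.mod_add_div (i.val + j.val) 3, pow_add, pow_mul, ha, one_pow, mul_one]

/-- Two commuting elements of order three, one fixed and one inverted by `x`, span nine elements. -/
theorem coord (S : Subgroup G) (hcard : Nat.card S = 9) (hab : ∀ a ∈ S, ∀ b ∈ S, a * b = b * a)
    (h3 : ∀ a ∈ S, a ^ 3 = 1) {x f g : G} (hf : f ∈ S) (hg : g ∈ S) (hf1 : f ≠ 1) (hg1 : g ≠ 1)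
    (hxf : x * f * x⁻¹ = f) (hxg : x * g * x⁻¹ = g⁻¹) :
    ∃ φ : V → G, Function.Injective φ ∧ (∀ a, a ∈ S ↔ ∃ v, φ v = a) ∧
      (∀ u v, φ (u + v) = φ u * φ v) ∧ (∀ v, φ v = f ^ v.1.val * g ^ v.2.val) ∧
      (∀ v, x * φ v * x⁻¹ = φ (v.1, -v.2)) := by
  set φ : V → G := fun v => f ^ v.1.val * g ^ v.2.val with hφ
  have hadd : ∀ u v, φ (u + v) = φ u * φ v := fun u v => by
    simp only [hφ, Prod.fst_add, Prod.snd_add]
    rw [pow_val_add (h3 f hf), pow_val_add (h3 g hg)]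
    have hc : Commute (f ^ v.1.val) (g ^ u.2.val) := (show Commute f g from hab f hf g hg).pow_pow _ _
    calc f ^ u.1.val * f ^ v.1.val * (g ^ u.2.val * g ^ v.2.val)
        = f ^ u.1.val * (f ^ v.1.val * g ^ u.2.val) * g ^ v.2.val := by group
      _ = f ^ u.1.val * (g ^ u.2.val * f ^ v.1.val) * g ^ v.2.val := by rw [hc.eq]
      _ = _ := by group
  have hpow : ∀ (a : G), a ^ 3 = 1 → ∀ i : ZMod 3, (a⁻¹) ^ i.val = a ^ (-i).val := by
    intro a ha i
    rw [inv_pow, inv_eq_of_mul_eq_one_left]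
    rw [← pow_val_add ha, neg_add_cancel, ZMod.val_zero, pow_zero]
  have hxφ : ∀ v, x * φ v * x⁻¹ = φ (v.1, -v.2) := fun v => by
    simp only [hφ]
    rw [show x * (f ^ v.1.val * g ^ v.2.val) * x⁻¹ = x * f ^ v.1.val * x⁻¹ * (x * g ^ v.2.val * x⁻¹) by group,
      ← conj_pow, ← conj_pow, hxf, hxg, hpow g (h3 g hg)]
  have h0 : φ 0 = 1 := by simp [hφ]
  have hsmall : ∀ (a : G), a ^ 3 = 1 → a ≠ 1 → ∀ i : ZMod 3, a ^ i.val = 1 → i = 0 := by
    intro a ha ha1 i hi
    by_contra hne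
    have : orderOf a = 3 := orderOf_eq_prime ha ha1
    have hd := orderOf_dvd_of_pow_eq_one hi
    rw [this] at hd
    have hlt := ZMod.val_lt i
    exact hne ((ZMod.val_eq_zero i).1 (by omega))
  have hker : ∀ v, φ v = 1 → v = 0 := fun v hv => by
    have h1 : φ ((v.1, -v.2) : V) = 1 := by rw [← hxφ, hv, mul_one, mul_inv_cancel]
    have h2 : φ ((v.1 + v.1, 0) : V) = 1 := by
      rw [show ((v.1 + v.1, 0) : V) = v + (v.1, -v.2) by ext <;> simp, hadd, hv, h1, one_mul]
    simp only [hφ, ZMod.val_zero, pow_zero, mul_one] at h2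
    have h3' : v.1 + v.1 = 0 := hsmall f (h3 f hf) hf1 _ h2
    have hv1 : v.1 = 0 := (by decide : ∀ i : ZMod 3, i + i = 0 → i = 0) _ h3'
    simp only [hφ, hv1, ZMod.val_zero, pow_zero, one_mul] at hv
    exact Prod.ext hv1 (hsmall g (h3 g hg) hg1 _ hv)
  have hinj : Function.Injective φ := fun u v e => by
    have e' : φ (u - v) * φ v = φ u := by rw [← hadd, sub_add_cancel]
    rw [e, mul_eq_right] at e'
    exact sub_eq_zero.1 (hker _ e')
  refine ⟨φ, hinj, fun a => ⟨fun ha => ?_, fun ⟨v, hv⟩ => hv ▸ mul_mem (pow_mem hf _) (pow_mem hg _)⟩,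
    hadd, fun v => rfl, hxφ⟩
  have hi : Function.Injective (fun v => (⟨φ v, mul_mem (pow_mem hf _) (pow_mem hg _)⟩ : S)) :=
    fun u v e => hinj (congrArg Subtype.val e)
  obtain ⟨v, hv⟩ := (hi.bijective_of_nat_card_le (by rw [hcard, Nat.card_prod, Nat.card_zmod])).2 ⟨a, ha⟩
  exact ⟨v, congrArg Subtype.val hv⟩

/-- The frame. -/
theorem exists_frame (T : Sylow 3 G) (hcard : Nat.card (T : Subgroup G) = 9)
    (h3 : ∀ a ∈ (T : Subgroup G), a ^ 3 = 1) (hab : ∀ a ∈ (T : Subgroup G), ∀ b ∈ (T : Subgroup G), a * b = b * a)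
    (hC : ∀ g : G, (∀ a ∈ (T : Subgroup G), g * a * g⁻¹ = a) → g ∈ (T : Subgroup G))
    (hloc : ∀ a ∈ (T : Subgroup G), a ≠ 1 → ∀ g : G, g * a = a * g →
      g ∈ Subgroup.normalizer ((T : Subgroup G) : Set G))
    (hPow : ∀ n : ℕ, 2 ^ n ∣ Nat.card (Subgroup.normalizer ((T : Subgroup G) : Set G)) → n ≤ 3)
    (ι : DihedralGroup 4 →* G) (hι : Function.Injective ι)
    (hιN : ∀ x, ι x ∈ Subgroup.normalizer ((T : Subgroup G) : Set G)) :
    Nonempty (Frame T) := by
  classical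
  set S := (T : Subgroup G) with hS
  set N := Subgroup.normalizer (S : Set G) with hN
  have hconj : ∀ x, ∀ a ∈ S, ι x * a * (ι x)⁻¹ ∈ S := fun x a ha =>
    (Subgroup.mem_normalizer_iff.1 (hιN x) a).1 ha
  have hnone : ∀ x : DihedralGroup 4, x ≠ 1 → x * x = 1 → ∃ a ∈ S, ι x * a * (ι x)⁻¹ ≠ a := by
    intro x hx hx2
    by_contra hcon
    push Not at hcon
    have hmem := hC _ hcon
    have e2 : ι x ^ 2 = 1 := by rw [pow_two, ← map_mul, hx2, map_one]
    have e3 := h3 _ hmem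
    rw [pow_succ, e2, one_mul, ← map_one ι] at e3
    exact hx (hι e3)
  have hinvol : ∀ x : DihedralGroup 4, x * x = 1 → ∀ a,
      ι x * (ι x * a * (ι x)⁻¹) * (ι x)⁻¹ = a := fun x hx a => by
    have e : ι x * ι x = 1 := by rw [← map_mul, hx, map_one]
    calc ι x * (ι x * a * (ι x)⁻¹) * (ι x)⁻¹ = (ι x * ι x) * a * (ι x * ι x)⁻¹ := by group
      _ = a := by rw [e, one_mul, inv_one, mul_one]
  have hfix : ∀ x : DihedralGroup 4, x * x = 1 → ∀ a ∈ S,
      ι x * (a * (ι x * a * (ι x)⁻¹)) * (ι x)⁻¹ = a * (ι x * a * (ι x)⁻¹) := fun x hx a ha => by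
    rw [show ι x * (a * (ι x * a * (ι x)⁻¹)) * (ι x)⁻¹ =
      (ι x * a * (ι x)⁻¹) * (ι x * (ι x * a * (ι x)⁻¹) * (ι x)⁻¹) by group, hinvol x hx a,
      hab _ (hconj x a ha) a ha]
  have hanti : ∀ x : DihedralGroup 4, x * x = 1 → ∀ a ∈ S,
      ι x * (a * (ι x * a * (ι x)⁻¹)⁻¹) * (ι x)⁻¹ = (a * (ι x * a * (ι x)⁻¹)⁻¹)⁻¹ := fun x hx a ha => by
    rw [show ι x * (a * (ι x * a * (ι x)⁻¹)⁻¹) * (ι x)⁻¹ =
      (ι x * a * (ι x)⁻¹) * (ι x * (ι x * a * (ι x)⁻¹) * (ι x)⁻¹)⁻¹ by group, hinvol x hx a, mul_inv_rev,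
      inv_inv]
  set z : DihedralGroup 4 := .r 2 with hzdef
  -- the central involution inverts `S`
  have hz : ∀ a ∈ S, ι z * a * (ι z)⁻¹ = a⁻¹ := by
    by_contra hcon
    push Not at hcon
    obtain ⟨a, ha, hne⟩ := hcon
    obtain ⟨c, hc, hc'⟩ := hnone z (by decide) (by decide)
    set f := a * (ι z * a * (ι z)⁻¹) with hfdef
    set g := c * (ι z * c * (ι z)⁻¹)⁻¹ with hgdef
    have hf : f ∈ S := mul_mem ha (hconj z a ha)
    have hg : g ∈ S := mul_mem hc (inv_mem (hconj z c hc))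
    have hf1 : f ≠ 1 := fun e => hne (eq_inv_of_mul_eq_one_right e)
    have hg1 : g ≠ 1 := fun e => hc' (by rw [hgdef, mul_inv_eq_one] at e; exact e.symm)
    have hzf : ι z * f * (ι z)⁻¹ = f := hfix z (by decide) a ha
    have hzg : ι z * g * (ι z)⁻¹ = g⁻¹ := hanti z (by decide) c hc
    obtain ⟨φ, hinj, hmem, hadd, hdef, hzφ⟩ := coord S hcard hab h3 hf hg hf1 hg1 hzf hzg
    have hcen : ∀ x : DihedralGroup 4, x * z = z * x := by decide
    have hsame : ∀ x v, ι z * (ι x * φ v * (ι x)⁻¹) * (ι z)⁻¹ = ι x * φ (v.1, -v.2) * (ι x)⁻¹ := fun x v => by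
      have e : ι z * ι x = ι x * ι z := by rw [← map_mul, ← map_mul, hcen]
      calc ι z * (ι x * φ v * (ι x)⁻¹) * (ι z)⁻¹ = (ι z * ι x) * φ v * (ι z * ι x)⁻¹ := by group
        _ = (ι x * ι z) * φ v * (ι x * ι z)⁻¹ := by rw [e]
        _ = ι x * (ι z * φ v * (ι z)⁻¹) * (ι x)⁻¹ := by group
        _ = _ := by rw [hzφ]
    have hlineF : ∀ x, ∃ i : ZMod 3, ι x * φ (1, 0) * (ι x)⁻¹ = φ (i, 0) := fun x => by
      obtain ⟨v, hv⟩ := (hmem _).1 (hconj x _ ((hmem _).2 ⟨((1, 0) : V), rfl⟩))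
      have e := hsame x (1, 0)
      simp only [neg_zero] at e
      rw [← hv, hzφ] at e
      have e' := congrArg Prod.snd (hinj e)
      exact ⟨v.1, by rw [← hv]; exact congrArg φ (Prod.ext rfl ((by decide : ∀ i : ZMod 3, -i = i → i = 0) _ e'))⟩
    have hlineG : ∀ x, ∃ j : ZMod 3, ι x * φ (0, 1) * (ι x)⁻¹ = φ (0, j) := fun x => by
      obtain ⟨v, hv⟩ := (hmem _).1 (hconj x _ ((hmem _).2 ⟨((0, 1) : V), rfl⟩))
      have hneg : φ (-((0, 1) : V)) = (φ (0, 1))⁻¹ := eq_inv_of_mul_eq_one_left (by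
        rw [← hadd, neg_add_cancel, hdef]; simp)
      have e := hsame x (0, 1)
      simp only at e
      rw [← hv, hzφ, show (((0 : ZMod 3), -1) : V) = -((0, 1) : V) by simp, hneg] at e
      rw [show ι x * (φ (0, 1))⁻¹ * (ι x)⁻¹ = (ι x * φ (0, 1) * (ι x)⁻¹)⁻¹ by group, ← hv] at e
      have hneg' : φ (-v) = (φ v)⁻¹ := eq_inv_of_mul_eq_one_left (by
        rw [← hadd, neg_add_cancel, hdef]; simp)
      rw [← hneg'] at e
      have e' := congrArg Prod.fst (hinj e)
      exact ⟨v.2, by rw [← hv]; exact congrArg φ (Prod.ext ((by decide : ∀ i : ZMod 3, i = -i → i = 0) _ e') rfl)⟩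
    have hscal : ∀ x (u : V) (k : ZMod 3), ι x * φ u * (ι x)⁻¹ = φ (k * u.1, k * u.2) →
        ∀ m : ZMod 3, ι x * φ (m * u.1, m * u.2) * (ι x)⁻¹ = φ (m * (k * u.1), m * (k * u.2)) := by
      intro x u k e m
      have hsm : ∀ w : V, φ (m * w.1, m * w.2) = φ w ^ m.val := fun w => by
        induction h : m.val generalizing m with
        | zero =>
          rw [(ZMod.val_eq_zero m).1 h]
          simp [hdef]
        | succ n ih =>
          have hm : m = (m - 1) + 1 := by ring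
          have hv : (m - 1).val = n := by
            have : ∀ i : ZMod 3, i.val ≠ 0 → (i - 1).val = i.val - 1 := by decide
            rw [this m (by omega), h]; rfl
          rw [pow_succ, ← ih (m - 1) hv, ← hadd]
          congr 1
          ext <;> simp only [Prod.fst_add, Prod.snd_add] <;> ring
      rw [hsm u, ← conj_pow, e, ← hsm]
    choose i hi using hlineF
    choose j hj using hlineG
    have hcomm : ι (.sr 0) * ι (.sr 1) * (ι (.sr 0)) * (ι (.sr 1)) = ι z := by
      simp only [← map_mul]; congr 1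
    have hi1 : ∀ x : DihedralGroup 4, x * x = 1 → i x * i x = 1 := fun x hx => by
      have e := hinvol x hx (φ (1, 0))
      rw [hi x] at e
      have e2 := hscal x ((1, 0) : V) (i x) (by rw [hi x]; simp) (i x)
      simp only [mul_one, mul_zero] at e2
      rw [e2] at e
      exact congrArg Prod.fst (hinj e)
    have hj1 : ∀ x : DihedralGroup 4, x * x = 1 → j x * j x = 1 := fun x hx => by
      have e := hinvol x hx (φ (0, 1))
      rw [hj x] at e
      have e2 := hscal x ((0, 1) : V) (j x) (by rw [hj x]; simp) (j x)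
      simp only [mul_one, mul_zero] at e2
      rw [e2] at e
      exact congrArg Prod.snd (hinj e)
    have hzg' : ι z * φ (0, 1) * (ι z)⁻¹ = φ (0, 1) := by
      rw [← hcomm]
      have step : ∀ x m, ι x * φ (0, m) * (ι x)⁻¹ = φ (0, m * j x) := fun x m => by
        have := hscal x ((0, 1) : V) (j x) (by rw [hj x]; simp) m
        simpa using this
      calc ι (.sr 0) * ι (.sr 1) * ι (.sr 0) * ι (.sr 1) * φ (0, 1) *
            (ι (.sr 0) * ι (.sr 1) * ι (.sr 0) * ι (.sr 1))⁻¹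
          = ι (.sr 0) * (ι (.sr 1) * (ι (.sr 0) * (ι (.sr 1) * φ (0, 1) * (ι (.sr 1))⁻¹) * (ι (.sr 0))⁻¹) *
              (ι (.sr 1))⁻¹) * (ι (.sr 0))⁻¹ := by group
        _ = φ (0, 1) := by
          rw [step, step, step, step]
          congr 2
          have a0 := hj1 (.sr 0) (by decide)
          have a1 := hj1 (.sr 1) (by decide)
          linear_combination (j (.sr 0) * j (.sr 0)) * a1 + a0
    rw [hzφ] at hzg'
    exact absurd (congrArg Prod.snd (hinj hzg')) (by decide)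
  -- the reflection fixes a line
  set b : DihedralGroup 4 := .sr 0 with hbdef
  set b' : DihedralGroup 4 := .sr 1 with hb'def
  obtain ⟨a, ha, hane⟩ : ∃ a ∈ S, ι b * a * (ι b)⁻¹ ≠ a⁻¹ := by
    by_contra hcon
    push Not at hcon
    obtain ⟨c, hc, hc'⟩ := hnone (b * z) (by decide) (by decide)
    refine hc' ?_
    rw [map_mul, show ι b * ι z * c * (ι b * ι z)⁻¹ = ι b * (ι z * c * (ι z)⁻¹) * (ι b)⁻¹ by group,
      hz c hc, hcon _ (inv_mem hc), inv_inv]
  set f := a * (ι b * a * (ι b)⁻¹) with hfdef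
  have hf : f ∈ S := mul_mem ha (hconj b a ha)
  have hf1 : f ≠ 1 := fun e => hane (eq_inv_of_mul_eq_one_right e)
  have hbf : ι b * f * (ι b)⁻¹ = f := hfix b (by decide) a ha
  set g := ι b' * f * (ι b')⁻¹ with hgdef
  have hg : g ∈ S := hconj b' f hf
  have hg1 : g ≠ 1 := fun e => hf1 (conj_eq_one_iff.1 e)
  have hbg : ι b * g * (ι b)⁻¹ = g⁻¹ := by
    have e : ι b * ι b' = ι b' * (ι b * ι z) := by simp only [← map_mul]; congr 1
    calc ι b * g * (ι b)⁻¹ = (ι b * ι b') * f * (ι b * ι b')⁻¹ := by rw [hgdef]; group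
      _ = ι b' * (ι b * (ι z * f * (ι z)⁻¹) * (ι b)⁻¹) * (ι b')⁻¹ := by rw [e]; group
      _ = ι b' * (ι b * f * (ι b)⁻¹)⁻¹ * (ι b')⁻¹ := by rw [hz f hf]; group
      _ = g⁻¹ := by rw [hbf, hgdef]; group
  obtain ⟨φ, hinj, hmem, hadd, hdef, hbφ⟩ := coord S hcard hab h3 hf hg hf1 hg1 hbf hbg
  have hb'g : ι b' * g * (ι b')⁻¹ = f := by rw [hgdef]; exact hinvol b' (by decide) f
  have hb'φ : ∀ v, ι b' * φ v * (ι b')⁻¹ = φ (v.2, v.1) := fun v => by
    rw [hdef, hdef]
    rw [show ι b' * (f ^ v.1.val * g ^ v.2.val) * (ι b')⁻¹ =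
      ι b' * f ^ v.1.val * (ι b')⁻¹ * (ι b' * g ^ v.2.val * (ι b')⁻¹) by group, ← conj_pow, ← conj_pow,
      ← hgdef, hb'g]
    exact ((show Commute g f from hab g hg f hf).pow_pow _ _).eq
  have hrotk : ∀ (k : ℕ) (v : V), ι (.r 1) ^ k * φ v * (ι (.r 1) ^ k)⁻¹ = φ (rot^[k] v) := by
    intro k
    induction k with
    | zero => intro v; simp
    | succ k ih =>
      intro v
      have e : ι (.r 1) * φ v * (ι (.r 1))⁻¹ = φ (rot v) := by
        rw [show (DihedralGroup.r (1 : ZMod 4)) = b * b' from rfl, map_mul,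
          show ι b * ι b' * φ v * (ι b * ι b')⁻¹ = ι b * (ι b' * φ v * (ι b')⁻¹) * (ι b)⁻¹ by group, hb'φ, hbφ]
        rfl
      rw [Function.iterate_succ_apply, ← ih, ← e, pow_succ]
      group
  have hact : ∀ x v, ι x * φ v * (ι x)⁻¹ = φ (act x v) := by
    intro x v
    have hr : ∀ k : ZMod 4, ι (.r k) * φ v * (ι (.r k))⁻¹ = φ (rot^[k.val] v) := fun k => by
      rw [← hrotk k.val v, ← map_pow, DihedralGroup.r_one_pow, ZMod.natCast_zmod_val]
    cases x with
    | r k => exact hr k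
    | sr k =>
      have e : DihedralGroup.sr k = b * DihedralGroup.r k := by
        rw [hbdef, DihedralGroup.sr_mul_r, zero_add]
      rw [e, map_mul,
        show ι b * ι (.r k) * φ v * (ι b * ι (.r k))⁻¹ = ι b * (ι (.r k) * φ v * (ι (.r k))⁻¹) * (ι b)⁻¹ by group,
        hr, hbφ, show b * DihedralGroup.r k = DihedralGroup.sr k from e.symm]
      rfl
  -- the normalizer is the product
  have hSN : S ≤ N := Subgroup.le_normalizer
  have hcl : ∀ (n : N) (v : V), ∃ u, φ u = (n : G) * φ v * (n : G)⁻¹ := fun n v =>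
    (hmem _).1 ((Subgroup.mem_normalizer_iff.1 n.2 _).1 ((hmem _).2 ⟨v, rfl⟩))
  choose L hL using hcl
  have hLadd : ∀ n u v, L n (u + v) = L n u + L n v := fun n u v => hinj (by
    rw [hadd, hL, hL, hL, hadd]; group)
  have hLone : ∀ v, L 1 v = v := fun v => hinj (by rw [hL]; simp)
  have hLmul : ∀ m n v, L (m * n) v = L m (L n v) := fun m n v => hinj (by
    rw [hL, hL, hL, Subgroup.coe_mul]; group)
  let col : N → Matrix (Fin 2) (Fin 2) (ZMod 3) := fun n =>
    !![(L n (1, 0)).1, (L n (0, 1)).1; (L n (1, 0)).2, (L n (0, 1)).2]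
  have hlin : ∀ n v, L n v = (v.1 * (L n (1, 0)).1 + v.2 * (L n (0, 1)).1,
      v.1 * (L n (1, 0)).2 + v.2 * (L n (0, 1)).2) := by
    intro n v
    let A : V →+ V := AddMonoidHom.mk' (L n) (hLadd n)
    have e : v = v.1.val • ((1, 0) : V) + v.2.val • ((0, 1) : V) := by
      ext <;> simp
    conv_lhs => rw [e]
    show A _ = _
    rw [map_add, map_nsmul, map_nsmul]
    ext <;> simp [A]
  let π : N →* Matrix (Fin 2) (Fin 2) (ZMod 3) :=
    { toFun := col
      map_one' := by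
        ext i j; fin_cases i <;> fin_cases j <;> simp [col, hLone]
      map_mul' := fun m n => by
        have e1 := (hLmul m n (1, 0)).trans (hlin m _)
        have e2 := (hLmul m n (0, 1)).trans (hlin m _)
        ext i j
        fin_cases i <;> fin_cases j <;> simp [col, Matrix.mul_apply, Fin.sum_univ_two, e1, e2] <;> ring }
  have hkerle : π.toHomUnits.ker ≤ S.subgroupOf N := by
    intro n hn
    rw [MonoidHom.mem_ker] at hn
    have hn' : col n = 1 := congrArg Units.val hn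
    have h00 : (L n (1, 0)).1 = 1 := congrFun (congrFun hn' 0) 0
    have h01 : (L n (0, 1)).1 = 0 := congrFun (congrFun hn' 0) 1
    have h10 : (L n (1, 0)).2 = 0 := congrFun (congrFun hn' 1) 0
    have h11 : (L n (0, 1)).2 = 1 := congrFun (congrFun hn' 1) 1
    refine Subgroup.mem_subgroupOf.2 (hC _ fun c hc => ?_)
    obtain ⟨v, rfl⟩ := (hmem c).1 hc
    rw [← hL, hlin, h00, h01, h10, h11]
    simp
  have hkerge : S.subgroupOf N ≤ π.toHomUnits.ker := by
    intro n hn
    rw [Subgroup.mem_subgroupOf] at hn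
    have hid : ∀ v, L n v = v := fun v => hinj (by
      rw [hL, hab _ hn _ ((hmem _).2 ⟨v, rfl⟩)]; group)
    rw [MonoidHom.mem_ker]
    refine Units.ext ?_
    show col n = 1
    ext i j; fin_cases i <;> fin_cases j <;> simp [col, hid]
  have hker : π.toHomUnits.ker = S.subgroupOf N := le_antisymm hkerle hkerge
  have hidx : (S.subgroupOf N).index ∣ 48 := by
    rw [← hker, Subgroup.index_ker]
    have h : Nat.card (GL (Fin 2) (ZMod 3)) = 48 := by
      rw [Matrix.card_GL_field, ZMod.card, Fin.prod_univ_two]; rfl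
    exact (Subgroup.card_subgroup_dvd_card π.toHomUnits.range).trans (dvd_of_eq h)
  have hNcard : Nat.card N = (S.subgroupOf N).index * 9 := by
    rw [← hcard, ← Nat.card_congr (Subgroup.subgroupOfEquivOfLe hSN).toEquiv, Subgroup.index_mul_card]
  have h27 : ¬ 27 ∣ Nat.card N := fun h => by
    have hT := T.card_eq_multiplicity
    rw [show Nat.card (T : Subgroup G) = 9 from hcard] at hT
    have hG : 3 ^ 3 ∣ Nat.card G := (by norm_num; exact h.trans (Subgroup.card_subgroup_dvd_card N))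
    have h3le := (Nat.Prime.pow_dvd_iff_le_factorization Nat.prime_three Nat.card_pos.ne').1 hG
    have : 3 ^ 3 ≤ 3 ^ (Nat.card G).factorization 3 := Nat.pow_le_pow_right (by norm_num) h3le
    omega
  have hidx8 : (S.subgroupOf N).index = 8 := by
    have h8 : 8 ∣ (S.subgroupOf N).index := by
      have h : Nat.card (DihedralGroup 4) ∣ Nat.card N :=
        Subgroup.card_dvd_of_injective (ι.codRestrict N hιN) fun x y e => hι (congrArg Subtype.val e)
      rw [DihedralGroup.nat_card, hNcard] at h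
      omega
    have h16 : ¬ 16 ∣ (S.subgroupOf N).index := fun h => by
      have := hPow 4 (by rw [hNcard]; exact Dvd.dvd.mul_right (by simpa using h) 9)
      omega
    have h3' : ¬ 3 ∣ (S.subgroupOf N).index := fun h => h27 (by rw [hNcard]; omega)
    obtain ⟨k, hk⟩ := h8
    rw [hk] at hidx h16 h3' ⊢
    have hk6 : k ∣ 6 := Nat.dvd_of_mul_dvd_mul_left (by norm_num) (show 8 * k ∣ 8 * 6 from hidx)
    have : k ≤ 6 := Nat.le_of_dvd (by norm_num) hk6
    interval_cases k <;> omega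
  refine ⟨⟨φ, ι, hinj, hι, hmem, hadd, hact, hιN, fun n hn => ?_, hloc⟩⟩
  have hvN : ∀ v, φ v ∈ N := fun v => hSN ((hmem _).2 ⟨v, rfl⟩)
  have hi : Function.Injective
      (fun w : V × DihedralGroup 4 => (⟨φ w.1 * ι w.2, mul_mem (hvN _) (hιN _)⟩ : N)) := by
    intro w w' e
    have e' : φ w.1 * ι w.2 = φ w'.1 * ι w'.2 := congrArg Subtype.val e
    have e2 : ι (w.2 * w'.2⁻¹) = φ (-w.1 + w'.1) := by
      rw [map_mul, map_inv, hadd]
      have hneg : φ (-w.1) = (φ w.1)⁻¹ := eq_inv_of_mul_eq_one_left (by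
        rw [← hadd, neg_add_cancel, hdef]; simp)
      rw [hneg, eq_inv_mul_iff_mul_eq, ← mul_assoc, mul_inv_eq_iff_eq_mul, e']
    have h4 : ι (w.2 * w'.2⁻¹) ^ 3 = 1 := h3 _ ((hmem _).2 ⟨_, e2.symm⟩)
    rw [← map_pow, ← map_one ι] at h4
    have h5 : w.2 * w'.2⁻¹ = 1 := by
      have key : ∀ x : DihedralGroup 4, x * x * x = 1 → x = 1 := by decide
      exact key _ (by rw [← pow_three']; exact hι h4)
    rw [mul_inv_eq_one] at h5
    rw [h5] at e'
    exact Prod.ext (hinj (mul_right_cancel e')) h5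
  obtain ⟨⟨v, x⟩, e⟩ := (hi.bijective_of_nat_card_le (by
    rw [hNcard, hidx8, Nat.card_prod, Nat.card_prod, Nat.card_zmod, DihedralGroup.nat_card])).2 ⟨n, hn⟩
  exact ⟨v, x, (congrArg Subtype.val e).symm⟩

end CfsgLib.Recog.SelfCentNine
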