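import Mathlib.Algebra.BigOperators.Group.Finset.Basic
import Mathlib.Data.Multiset.Basic
import Mathlib.Tactic.Ring
import Mathlib.Tactic.Linarith

/-!
# Four exceptional columns of norm six

All ways of writing the Gram matrix of the four exceptional columns as a sum of squares of
integral rows satisfying the congruence modulo three.
-/

set_option autoImplicit false
set_option Elab.async false

namespace CfsgLib.Recog.SelfCentNine

/-- A row. -/
structure Row where
  a : ℤ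
  b : ℤ
  c : ℤ
  e : ℤ
deriving DecidableEq

/-- A symmetric matrix, by its upper triangle. -/
structure Gram where
  aa : ℤ
  ab : ℤ
  ac : ℤ
  ae : ℤ
  bb : ℤ
  bc : ℤ
  be : ℤ
  cc : ℤ
  ce : ℤ
  ee : ℤ
deriving DecidableEq

/-- Subtract the square of a row. -/
def Gram.sub (g : Gram) (v : Row) : Gram :=
  ⟨g.aa - v.a * v.a, g.ab - v.a * v.b, g.ac - v.a * v.c, g.ae - v.a * v.e, g.bb - v.b * v.b,
    g.bc - v.b * v.c, g.be - v.b * v.e, g.cc - v.c * v.c, g.ce - v.c * v.e, g.ee - v.e * v.e⟩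

/-- The zero matrix. -/
def Gram.zero : Gram := ⟨0, 0, 0, 0, 0, 0, 0, 0, 0, 0⟩

/-- Evaluate an integer before passing it on. -/
def force {β : Type} : ℤ → (ℤ → β) → β
  | Int.ofNat 0, k => k 0
  | Int.ofNat (m + 1), k => k (Int.ofNat (m + 1))
  | Int.negSucc 0, k => k (Int.negSucc 0)
  | Int.negSucc (m + 1), k => k (Int.negSucc (m + 1))

theorem force_eq {β : Type} (x : ℤ) (k : ℤ → β) : force x k = k x := by
  rcases x with (_ | m) | (_ | m) <;> rfl

/-- Evaluate all entries. -/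
def Gram.eval {β : Type} (g : Gram) (k : Gram → β) : β :=
  force g.aa fun a1 => force g.ab fun a2 => force g.ac fun a3 => force g.ae fun a4 =>
  force g.bb fun a5 => force g.bc fun a6 => force g.be fun a7 => force g.cc fun a8 =>
  force g.ce fun a9 => force g.ee fun a10 => k ⟨a1, a2, a3, a4, a5, a6, a7, a8, a9, a10⟩

theorem Gram.eval_eq {β : Type} (g : Gram) (k : Gram → β) : g.eval k = k g := by
  simp only [Gram.eval, force_eq]

/-- The quadratic form. -/
def Gram.quad (g : Gram) (q : Row) : ℤ :=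
  g.aa * q.a * q.a + g.bb * q.b * q.b + g.cc * q.c * q.c + g.ee * q.e * q.e +
    2 * (g.ab * q.a * q.b + g.ac * q.a * q.c + g.ae * q.a * q.e + g.bc * q.b * q.c +
      g.be * q.b * q.e + g.ce * q.c * q.e)

theorem Gram.quad_sub (g : Gram) (v q : Row) :
    (g.sub v).quad q = g.quad q - (v.a * q.a + v.b * q.b + v.c * q.c + v.e * q.e) ^ 2 := by
  simp only [Gram.sub, Gram.quad]; ring

/-- Test vectors. -/
def tests : List Row :=
  [⟨1, 0, 0, 0⟩, ⟨0, 1, 0, 0⟩, ⟨0, 0, 1, 0⟩, ⟨0, 0, 0, 1⟩,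
   ⟨1, 1, 0, 0⟩, ⟨1, -1, 0, 0⟩, ⟨1, 0, 1, 0⟩, ⟨1, 0, -1, 0⟩, ⟨1, 0, 0, 1⟩, ⟨1, 0, 0, -1⟩,
   ⟨0, 1, 1, 0⟩, ⟨0, 1, -1, 0⟩, ⟨0, 1, 0, 1⟩, ⟨0, 1, 0, -1⟩, ⟨0, 0, 1, 1⟩, ⟨0, 0, 1, -1⟩,
   ⟨1, 1, 1, 0⟩, ⟨1, 1, -1, 0⟩, ⟨1, -1, 1, 0⟩, ⟨1, -1, -1, 0⟩, ⟨1, 1, 0, 1⟩, ⟨1, 1, 0, -1⟩,
   ⟨1, -1, 0, 1⟩, ⟨1, -1, 0, -1⟩, ⟨1, 0, 1, 1⟩, ⟨1, 0, 1, -1⟩, ⟨1, 0, -1, 1⟩, ⟨1, 0, -1, -1⟩,
   ⟨0, 1, 1, 1⟩, ⟨0, 1, 1, -1⟩, ⟨0, 1, -1, 1⟩, ⟨0, 1, -1, -1⟩, ⟨1, 1, 1, 1⟩, ⟨1, 1, 1, -1⟩,
   ⟨1, 1, -1, 1⟩, ⟨1, 1, -1, -1⟩, ⟨1, -1, 1, 1⟩, ⟨1, -1, 1, -1⟩, ⟨1, -1, -1, 1⟩, ⟨1, -1, -1, -1⟩]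

/-- A sum of squares passes the tests. -/
def Gram.ok (g : Gram) : Bool := tests.all fun q => decide (0 ≤ g.quad q)

/-- The search: nondecreasing sequences of rows from the list. -/
def search : ℕ → List Row → Gram → List (List Row)
  | 0, _, g => if g = Gram.zero then [[]] else []
  | n + 1, L, g => if g = Gram.zero then [[]] else
      L.tails.flatMap fun t => match t with
        | [] => []
        | v :: t' => (g.sub v).eval fun g' => if g'.ok then (search n (v :: t') g').map (v :: ·) else []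

/-- The matrix of a multiset of rows. -/
def gramOf (m : Multiset Row) : Gram :=
  ⟨(m.map fun v => v.a * v.a).sum, (m.map fun v => v.a * v.b).sum, (m.map fun v => v.a * v.c).sum,
    (m.map fun v => v.a * v.e).sum, (m.map fun v => v.b * v.b).sum, (m.map fun v => v.b * v.c).sum,
    (m.map fun v => v.b * v.e).sum, (m.map fun v => v.c * v.c).sum, (m.map fun v => v.c * v.e).sum,
    (m.map fun v => v.e * v.e).sum⟩

theorem gramOf_zero : gramOf 0 = Gram.zero := rfl

theorem gramOf_cons (v : Row) (m : Multiset Row) : (gramOf (v ::ₘ m)).sub v = gramOf m := by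
  simp [gramOf, Gram.sub]

theorem quad_gramOf_nonneg (m : Multiset Row) (q : Row) : 0 ≤ (gramOf m).quad q := by
  induction m using Multiset.induction with
  | empty => simp [gramOf, Gram.quad]
  | cons v m ih =>
    rw [← gramOf_cons v m, Gram.quad_sub] at ih
    nlinarith [sq_nonneg (v.a * q.a + v.b * q.b + v.c * q.c + v.e * q.e)]

theorem ok_gramOf (m : Multiset Row) : (gramOf m).ok = true := by
  simp only [Gram.ok, List.all_eq_true, decide_eq_true_eq]
  exact fun q _ => quad_gramOf_nonneg m q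

theorem gramOf_eq_zero {m : Multiset Row} (h : gramOf m = Gram.zero)
    (hne : ∀ v ∈ m, v ≠ ⟨0, 0, 0, 0⟩) : m = 0 := by
  by_contra hm
  obtain ⟨v, hv⟩ := Multiset.exists_mem_of_ne_zero hm
  obtain ⟨m', rfl⟩ := Multiset.exists_cons_of_mem hv
  refine hne v hv ?_
  have hz : ∀ q, (gramOf m').quad q + (v.a * q.a + v.b * q.b + v.c * q.c + v.e * q.e) ^ 2 = 0 := by
    intro q
    rw [← gramOf_cons v m', Gram.quad_sub, h]
    simp [Gram.quad, Gram.zero]
  have key : ∀ q : Row, v.a * q.a + v.b * q.b + v.c * q.c + v.e * q.e = 0 := fun q => by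
    have := hz q
    have := quad_gramOf_nonneg m' q
    exact pow_eq_zero_iff (two_ne_zero) |>.1 (le_antisymm (by linarith) (sq_nonneg _))
  have h1 := key ⟨1, 0, 0, 0⟩
  have h2 := key ⟨0, 1, 0, 0⟩
  have h3 := key ⟨0, 0, 1, 0⟩
  have h4 := key ⟨0, 0, 0, 1⟩
  obtain ⟨va, vb, vc, ve⟩ := v
  simp at h1 h2 h3 h4
  subst h1 h2 h3 h4
  rfl

/-- Every solution is found. -/
theorem mem_search : ∀ (n : ℕ) (L : List Row) (m : Multiset Row), Multiset.card m ≤ n →
    (∀ v ∈ m, v ∈ L ∧ v ≠ ⟨0, 0, 0, 0⟩) → ∃ p ∈ search n L (gramOf m), (p : Multiset Row) = m := by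
  intro n
  induction n with
  | zero =>
    intro L m hc hm
    have : m = 0 := Multiset.card_eq_zero.1 (Nat.le_zero.1 hc)
    subst this
    exact ⟨[], by simp [search, gramOf_zero], rfl⟩
  | succ n ih =>
    intro L m hc hm
    by_cases hz : gramOf m = Gram.zero
    · have := gramOf_eq_zero hz fun v hv => (hm v hv).2
      subst this
      exact ⟨[], by simp [search, gramOf_zero], rfl⟩
    simp only [search, if_neg hz, List.mem_flatMap]
    obtain ⟨v, t', hsuf, hv, hrest⟩ : ∃ v t', (v :: t') ∈ L.tails ∧ v ∈ m ∧ ∀ w ∈ m, w ∈ v :: t' := by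
      have hne : m ≠ 0 := fun h => hz (by rw [h]; rfl)
      have hmL : ∀ w ∈ m, w ∈ L := fun w hw => (hm w hw).1
      clear hm hc hz ih
      induction L with
      | nil => obtain ⟨w, hw⟩ := Multiset.exists_mem_of_ne_zero hne; exact absurd (hmL w hw) (by simp)
      | cons x L ih =>
        by_cases hx : x ∈ m
        · exact ⟨x, L, by simp [List.tails], hx, hmL⟩
        · obtain ⟨v, t', h1, h2, h3⟩ := ih fun w hw =>
            (List.mem_cons.1 (hmL w hw)).resolve_left fun e => hx (e ▸ hw)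
          exact ⟨v, t', by simp [List.tails]; exact Or.inr (by simpa using h1), h2, h3⟩
    obtain ⟨m', rfl⟩ := Multiset.exists_cons_of_mem hv
    obtain ⟨p, hp, hpm⟩ := ih (v :: t') m' (by simpa using hc) fun w hw =>
      ⟨hrest w (Multiset.mem_cons_of_mem hw), (hm w (Multiset.mem_cons_of_mem hw)).2⟩
    refine ⟨v :: p, ⟨v :: t', hsuf, ?_⟩, by rw [← Multiset.cons_coe, hpm]⟩
    simp only [Gram.eval_eq, gramOf_cons, ok_gramOf, if_true, List.mem_map]
    exact ⟨p, hp, rfl⟩

/-- The admissible normalised rows. -/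
def rows : List Row :=
  [⟨2, -2, -2, -1⟩, ⟨2, -2, -2, 2⟩, ⟨2, -2, 2, -2⟩, ⟨2, -2, 2, 1⟩, ⟨2, 2, -2, 0⟩, ⟨2, 2, 2, -1⟩,
   ⟨2, 2, 2, 2⟩, ⟨2, -1, -2, 0⟩, ⟨2, -1, 2, -1⟩, ⟨2, -1, 2, 2⟩, ⟨2, 1, -2, -1⟩, ⟨2, 1, -2, 2⟩,
   ⟨2, 1, 2, -2⟩, ⟨2, 1, 2, 1⟩, ⟨2, 0, -2, -2⟩, ⟨2, 0, -2, 1⟩, ⟨2, 0, 2, 0⟩, ⟨2, -2, -1, -2⟩,
   ⟨2, -2, -1, 1⟩, ⟨2, -2, 1, -1⟩, ⟨2, -2, 1, 2⟩, ⟨2, 2, -1, -1⟩, ⟨2, 2, -1, 2⟩, ⟨2, 2, 1, 0⟩,
   ⟨2, -1, -1, -1⟩, ⟨2, -1, -1, 2⟩, ⟨2, -1, 1, 0⟩, ⟨2, 1, -1, -2⟩, ⟨2, 1, -1, 1⟩, ⟨2, 1, 1, -1⟩,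
   ⟨2, 1, 1, 2⟩, ⟨2, 0, -1, 0⟩, ⟨2, 0, 1, -2⟩, ⟨2, 0, 1, 1⟩, ⟨2, -2, 0, 0⟩, ⟨2, 2, 0, -2⟩,
   ⟨2, 2, 0, 1⟩, ⟨2, -1, 0, -2⟩, ⟨2, -1, 0, 1⟩, ⟨2, 1, 0, 0⟩, ⟨2, 0, 0, -1⟩, ⟨2, 0, 0, 2⟩,
   ⟨1, -2, -2, -2⟩, ⟨1, -2, -2, 1⟩, ⟨1, -2, 2, 0⟩, ⟨1, 2, -2, -1⟩, ⟨1, 2, -2, 2⟩, ⟨1, 2, 2, -2⟩,
   ⟨1, 2, 2, 1⟩, ⟨1, -1, -2, -1⟩, ⟨1, -1, -2, 2⟩, ⟨1, -1, 2, -2⟩, ⟨1, -1, 2, 1⟩, ⟨1, 1, -2, -2⟩,
   ⟨1, 1, -2, 1⟩, ⟨1, 1, 2, 0⟩, ⟨1, 0, -2, 0⟩, ⟨1, 0, 2, -1⟩, ⟨1, 0, 2, 2⟩, ⟨1, -2, -1, 0⟩,
   ⟨1, -2, 1, -2⟩, ⟨1, -2, 1, 1⟩, ⟨1, 2, -1, -2⟩, ⟨1, 2, -1, 1⟩, ⟨1, 2, 1, -1⟩, ⟨1, 2, 1, 2⟩,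
   ⟨1, -1, -1, -2⟩, ⟨1, -1, -1, 1⟩, ⟨1, -1, 1, -1⟩, ⟨1, -1, 1, 2⟩, ⟨1, 1, -1, 0⟩, ⟨1, 1, 1, -2⟩,
   ⟨1, 1, 1, 1⟩, ⟨1, 0, -1, -1⟩, ⟨1, 0, -1, 2⟩, ⟨1, 0, 1, 0⟩, ⟨1, -2, 0, -1⟩, ⟨1, -2, 0, 2⟩,
   ⟨1, 2, 0, 0⟩, ⟨1, -1, 0, 0⟩, ⟨1, 1, 0, -1⟩, ⟨1, 1, 0, 2⟩, ⟨1, 0, 0, -2⟩, ⟨1, 0, 0, 1⟩,
   ⟨0, 2, -2, -2⟩, ⟨0, 2, -2, 1⟩, ⟨0, 2, 2, 0⟩, ⟨0, 1, -2, 0⟩, ⟨0, 1, 2, -1⟩, ⟨0, 1, 2, 2⟩,
   ⟨0, 0, 2, -2⟩, ⟨0, 0, 2, 1⟩, ⟨0, 2, -1, 0⟩, ⟨0, 2, 1, -2⟩, ⟨0, 2, 1, 1⟩, ⟨0, 1, -1, -1⟩,
   ⟨0, 1, -1, 2⟩, ⟨0, 1, 1, 0⟩, ⟨0, 0, 1, -1⟩, ⟨0, 0, 1, 2⟩, ⟨0, 2, 0, -1⟩, ⟨0, 2, 0, 2⟩,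
   ⟨0, 1, 0, -2⟩, ⟨0, 1, 0, 1⟩]

theorem mem_rows_iff : ∀ a ∈ ([-2, -1, 0, 1, 2] : List ℤ), ∀ b ∈ ([-2, -1, 0, 1, 2] : List ℤ),
    ∀ c ∈ ([-2, -1, 0, 1, 2] : List ℤ), ∀ e ∈ ([-2, -1, 0, 1, 2] : List ℤ),
    (c + e - a - b) % 3 = 0 → (⟨a, b, c, e⟩ : Row) ≠ ⟨0, 0, 0, 0⟩ →
    (⟨a, b, c, e⟩ : Row) ∈ rows ∨ (⟨-a, -b, -c, -e⟩ : Row) ∈ rows := by
  decide +kernel

/-- The matrix of the columns without the trivial character. -/
def target : Gram := ⟨5, 3, -1, 0, 6, 0, 0, 5, 3, 6⟩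

/-- The six patterns. -/
def patterns : List (List Row) :=
  [[⟨1, 1, 1, 1⟩, ⟨1, 0, -1, -1⟩, ⟨1, 0, -1, -1⟩, ⟨1, 2, 0, 0⟩, ⟨1, 0, 0, 1⟩, ⟨0, 1, -1, -1⟩, ⟨0, 0, 1, -1⟩],
   [⟨2, 1, 0, 0⟩, ⟨1, 1, -1, 0⟩, ⟨0, 1, -1, -1⟩, ⟨0, 1, 1, 0⟩, ⟨0, 1, 1, 0⟩, ⟨0, 0, 1, 2⟩, ⟨0, 1, 0, 1⟩],
   [⟨1, 1, -1, 0⟩, ⟨1, 1, -1, 0⟩, ⟨1, 1, 1, 1⟩, ⟨1, -1, 0, 0⟩, ⟨1, 1, 0, -1⟩, ⟨0, 1, 1, 0⟩, ⟨0, 0, 1, 2⟩],
   [⟨1, 1, -1, 0⟩, ⟨1, 0, -1, -1⟩, ⟨1, 0, 1, 0⟩, ⟨1, 2, 0, 0⟩, ⟨1, 0, 0, 1⟩, ⟨0, 1, 1, 0⟩, ⟨0, 0, 1, 2⟩],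
   [⟨1, 0, -1, -1⟩, ⟨1, 2, 0, 0⟩, ⟨1, 1, 0, -1⟩, ⟨1, 0, 0, 1⟩, ⟨1, 0, 0, 1⟩, ⟨0, 0, 2, 1⟩, ⟨0, 1, 0, 1⟩],
   [⟨1, 1, -1, 0⟩, ⟨1, 1, 1, 1⟩, ⟨1, 0, -1, -1⟩, ⟨1, 1, 0, -1⟩, ⟨1, 0, 0, 1⟩, ⟨0, 1, -1, -1⟩, ⟨0, 1, 1, 0⟩, ⟨0, 1, 0, 1⟩]]

/-- The branches of the search starting at some of the suffixes. -/
def searchFrom (ts : List (List Row)) : List (List Row) :=
  ts.flatMap fun t => match t with
    | [] => []
    | v :: t' => (target.sub v).eval fun g' => if g'.ok then (search 21 (v :: t') g').map (v :: ·) else []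

set_option maxRecDepth 100000 in
theorem search_part0 : (searchFrom ((rows.tails.drop 0).take 36)).all (fun p => decide (p ∈ patterns)) = true := by
  decide +kernel

set_option maxRecDepth 100000 in
theorem search_part1 : (searchFrom ((rows.tails.drop 36).take 16)).all (fun p => decide (p ∈ patterns)) = true := by
  decide +kernel

set_option maxRecDepth 100000 in
theorem search_part2 : (searchFrom ((rows.tails.drop 52).take 10)).all (fun p => decide (p ∈ patterns)) = true := by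
  decide +kernel

set_option maxRecDepth 100000 in
theorem search_part3 : (searchFrom ((rows.tails.drop 62).take 2)).all (fun p => decide (p ∈ patterns)) = true := by
  decide +kernel

set_option maxRecDepth 100000 in
theorem search_part4 : (searchFrom ((rows.tails.drop 64).take 1)).all (fun p => decide (p ∈ patterns)) = true := by
  decide +kernel

set_option maxRecDepth 100000 in
theorem search_part5 : (searchFrom ((rows.tails.drop 65).take 1)).all (fun p => decide (p ∈ patterns)) = true := by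
  decide +kernel

set_option maxRecDepth 100000 in
theorem search_part6 : (searchFrom ((rows.tails.drop 66).take 1)).all (fun p => decide (p ∈ patterns)) = true := by
  decide +kernel

set_option maxRecDepth 100000 in
theorem search_part7 : (searchFrom ((rows.tails.drop 67).take 1)).all (fun p => decide (p ∈ patterns)) = true := by
  decide +kernel

set_option maxRecDepth 100000 in
theorem search_part8 : (searchFrom ((rows.tails.drop 68).take 1)).all (fun p => decide (p ∈ patterns)) = true := by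
  decide +kernel

set_option maxRecDepth 100000 in
theorem search_part9 : (searchFrom ((rows.tails.drop 69).take 1)).all (fun p => decide (p ∈ patterns)) = true := by
  decide +kernel

set_option maxRecDepth 100000 in
theorem search_part10 : (searchFrom ((rows.tails.drop 70).take 1)).all (fun p => decide (p ∈ patterns)) = true := by
  decide +kernel

set_option maxRecDepth 100000 in
theorem search_part11 : (searchFrom ((rows.tails.drop 71).take 1)).all (fun p => decide (p ∈ patterns)) = true := by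
  decide +kernel

set_option maxRecDepth 100000 in
theorem search_part12 : (searchFrom ((rows.tails.drop 72).take 1)).all (fun p => decide (p ∈ patterns)) = true := by
  decide +kernel

set_option maxRecDepth 100000 in
theorem search_part13 : (searchFrom ((rows.tails.drop 73).take 1)).all (fun p => decide (p ∈ patterns)) = true := by
  decide +kernel

set_option maxRecDepth 100000 in
theorem search_part14 : (searchFrom ((rows.tails.drop 74).take 1)).all (fun p => decide (p ∈ patterns)) = true := by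
  decide +kernel

set_option maxRecDepth 100000 in
theorem search_part15 : (searchFrom ((rows.tails.drop 75).take 1)).all (fun p => decide (p ∈ patterns)) = true := by
  decide +kernel

set_option maxRecDepth 100000 in
theorem search_part16 : (searchFrom ((rows.tails.drop 76).take 1)).all (fun p => decide (p ∈ patterns)) = true := by
  decide +kernel

set_option maxRecDepth 100000 in
theorem search_part17 : (searchFrom ((rows.tails.drop 77).take 1)).all (fun p => decide (p ∈ patterns)) = true := by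
  decide +kernel

set_option maxRecDepth 100000 in
theorem search_part18 : (searchFrom ((rows.tails.drop 78).take 1)).all (fun p => decide (p ∈ patterns)) = true := by
  decide +kernel

set_option maxRecDepth 100000 in
theorem search_part19 : (searchFrom ((rows.tails.drop 79).take 1)).all (fun p => decide (p ∈ patterns)) = true := by
  decide +kernel

set_option maxRecDepth 100000 in
theorem search_part20 : (searchFrom ((rows.tails.drop 80).take 1)).all (fun p => decide (p ∈ patterns)) = true := by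
  decide +kernel

set_option maxRecDepth 100000 in
theorem search_part21 : (searchFrom ((rows.tails.drop 81).take 1)).all (fun p => decide (p ∈ patterns)) = true := by
  decide +kernel

set_option maxRecDepth 100000 in
theorem search_part22 : (searchFrom ((rows.tails.drop 82).take 1)).all (fun p => decide (p ∈ patterns)) = true := by
  decide +kernel

set_option maxRecDepth 100000 in
theorem search_part23 : (searchFrom ((rows.tails.drop 83).take 1)).all (fun p => decide (p ∈ patterns)) = true := by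
  decide +kernel

set_option maxRecDepth 100000 in
theorem search_part24 : (searchFrom ((rows.tails.drop 84).take 1)).all (fun p => decide (p ∈ patterns)) = true := by
  decide +kernel

set_option maxRecDepth 100000 in
theorem search_part25 : (searchFrom ((rows.tails.drop 85).take 1)).all (fun p => decide (p ∈ patterns)) = true := by
  decide +kernel

set_option maxRecDepth 100000 in
theorem search_part26 : (searchFrom ((rows.tails.drop 86).take 1)).all (fun p => decide (p ∈ patterns)) = true := by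
  decide +kernel

set_option maxRecDepth 100000 in
theorem search_part27 : (searchFrom ((rows.tails.drop 87).take 1)).all (fun p => decide (p ∈ patterns)) = true := by
  decide +kernel

set_option maxRecDepth 100000 in
theorem search_part28 : (searchFrom ((rows.tails.drop 88).take 1)).all (fun p => decide (p ∈ patterns)) = true := by
  decide +kernel

set_option maxRecDepth 100000 in
theorem search_part29 : (searchFrom ((rows.tails.drop 89).take 1)).all (fun p => decide (p ∈ patterns)) = true := by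
  decide +kernel

set_option maxRecDepth 100000 in
theorem search_part30 : (searchFrom ((rows.tails.drop 90).take 1)).all (fun p => decide (p ∈ patterns)) = true := by
  decide +kernel

set_option maxRecDepth 100000 in
theorem search_part31 : (searchFrom ((rows.tails.drop 91).take 14)).all (fun p => decide (p ∈ patterns)) = true := by
  decide +kernel

set_option maxRecDepth 100000 in
theorem search_rows : (search 22 rows target).all (fun p => decide (p ∈ patterns)) = true := by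
  have hne : ¬ target = Gram.zero := by decide
  have e : search 22 rows target = searchFrom rows.tails := by
    rw [show (22 : ℕ) = 21 + 1 from rfl]
    simp only [search, if_neg hne]
    rfl
  have h : ∀ t ∈ rows.tails, (searchFrom [t]).all (fun p => decide (p ∈ patterns)) = true := by
    intro t ht
    obtain ⟨i, hi, rfl⟩ := List.getElem_of_mem ht
    have hlen : rows.tails.length = 105 := by decide +kernel
    have key : ∀ x m, x ≤ i → i < x + m →
        (searchFrom ((rows.tails.drop x).take m)).all (fun p => decide (p ∈ patterns)) = true →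
        (searchFrom [rows.tails[i]]).all (fun p => decide (p ∈ patterns)) = true := by
      intro x m h1 h2 h
      refine List.all_eq_true.2 fun p hp => List.all_eq_true.1 h p ?_
      simp only [searchFrom, List.flatMap_cons, List.flatMap_nil, List.append_nil] at hp
      exact List.mem_flatMap.2 ⟨_, List.mem_iff_getElem.2 ⟨i - x, by simp [hlen]; omega,
        by simp [Nat.add_sub_cancel' h1]⟩, hp⟩
    rcases Nat.lt_or_ge i 36 with h0 | h0
    · exact key 0 36 (by omega) (by omega) search_part0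
    rcases Nat.lt_or_ge i 52 with h1 | h1
    · exact key 36 16 (by omega) (by omega) search_part1
    rcases Nat.lt_or_ge i 62 with h2 | h2
    · exact key 52 10 (by omega) (by omega) search_part2
    rcases Nat.lt_or_ge i 64 with h3 | h3
    · exact key 62 2 (by omega) (by omega) search_part3
    rcases Nat.lt_or_ge i 65 with h4 | h4
    · exact key 64 1 (by omega) (by omega) search_part4
    rcases Nat.lt_or_ge i 66 with h5 | h5
    · exact key 65 1 (by omega) (by omega) search_part5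
    rcases Nat.lt_or_ge i 67 with h6 | h6
    · exact key 66 1 (by omega) (by omega) search_part6
    rcases Nat.lt_or_ge i 68 with h7 | h7
    · exact key 67 1 (by omega) (by omega) search_part7
    rcases Nat.lt_or_ge i 69 with h8 | h8
    · exact key 68 1 (by omega) (by omega) search_part8
    rcases Nat.lt_or_ge i 70 with h9 | h9
    · exact key 69 1 (by omega) (by omega) search_part9
    rcases Nat.lt_or_ge i 71 with h10 | h10
    · exact key 70 1 (by omega) (by omega) search_part10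
    rcases Nat.lt_or_ge i 72 with h11 | h11
    · exact key 71 1 (by omega) (by omega) search_part11
    rcases Nat.lt_or_ge i 73 with h12 | h12
    · exact key 72 1 (by omega) (by omega) search_part12
    rcases Nat.lt_or_ge i 74 with h13 | h13
    · exact key 73 1 (by omega) (by omega) search_part13
    rcases Nat.lt_or_ge i 75 with h14 | h14
    · exact key 74 1 (by omega) (by omega) search_part14
    rcases Nat.lt_or_ge i 76 with h15 | h15
    · exact key 75 1 (by omega) (by omega) search_part15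
    rcases Nat.lt_or_ge i 77 with h16 | h16
    · exact key 76 1 (by omega) (by omega) search_part16
    rcases Nat.lt_or_ge i 78 with h17 | h17
    · exact key 77 1 (by omega) (by omega) search_part17
    rcases Nat.lt_or_ge i 79 with h18 | h18
    · exact key 78 1 (by omega) (by omega) search_part18
    rcases Nat.lt_or_ge i 80 with h19 | h19
    · exact key 79 1 (by omega) (by omega) search_part19
    rcases Nat.lt_or_ge i 81 with h20 | h20
    · exact key 80 1 (by omega) (by omega) search_part20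
    rcases Nat.lt_or_ge i 82 with h21 | h21
    · exact key 81 1 (by omega) (by omega) search_part21
    rcases Nat.lt_or_ge i 83 with h22 | h22
    · exact key 82 1 (by omega) (by omega) search_part22
    rcases Nat.lt_or_ge i 84 with h23 | h23
    · exact key 83 1 (by omega) (by omega) search_part23
    rcases Nat.lt_or_ge i 85 with h24 | h24
    · exact key 84 1 (by omega) (by omega) search_part24
    rcases Nat.lt_or_ge i 86 with h25 | h25
    · exact key 85 1 (by omega) (by omega) search_part25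
    rcases Nat.lt_or_ge i 87 with h26 | h26
    · exact key 86 1 (by omega) (by omega) search_part26
    rcases Nat.lt_or_ge i 88 with h27 | h27
    · exact key 87 1 (by omega) (by omega) search_part27
    rcases Nat.lt_or_ge i 89 with h28 | h28
    · exact key 88 1 (by omega) (by omega) search_part28
    rcases Nat.lt_or_ge i 90 with h29 | h29
    · exact key 89 1 (by omega) (by omega) search_part29
    rcases Nat.lt_or_ge i 91 with h30 | h30
    · exact key 90 1 (by omega) (by omega) search_part30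
    exact key 91 14 (by omega) (by omega) search_part31
  rw [e]
  refine List.all_eq_true.2 fun p hp => ?_
  obtain ⟨t, ht, hpt⟩ := List.mem_flatMap.1 hp
  exact List.all_eq_true.1 (h t ht) p (List.mem_flatMap.2 ⟨t, List.mem_singleton_self t, hpt⟩)

/-- The classification of the rows. -/
theorem mem_patterns {m : Multiset Row} (hm : ∀ v ∈ m, v ∈ rows) (hg : gramOf m = target) :
    ∃ p ∈ patterns, (p : Multiset Row) = m := by
  have hne : ∀ v ∈ m, v ≠ ⟨0, 0, 0, 0⟩ := fun v hv h => by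
    have := hm v hv
    rw [h] at this
    revert this
    decide +kernel
  have hcard : Multiset.card m ≤ 22 := by
    have key : ∀ m : Multiset Row, (∀ v ∈ m, v ≠ ⟨0, 0, 0, 0⟩) →
        (Multiset.card m : ℤ) ≤ (gramOf m).aa + (gramOf m).bb + (gramOf m).cc + (gramOf m).ee := by
      intro m
      induction m using Multiset.induction with
      | empty => intro; simp [gramOf]
      | cons v m ih =>
        intro hne
        have h1 := ih fun w hw => hne w (Multiset.mem_cons_of_mem hw)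
        have h2 := gramOf_cons v m
        rw [← h2] at h1
        simp only [Gram.sub] at h1
        have h3 : 1 ≤ v.a * v.a + v.b * v.b + v.c * v.c + v.e * v.e := by
          have hv := hne v (Multiset.mem_cons_self v m)
          obtain ⟨va, vb, vc, ve⟩ := v
          by_contra hlt
          have ha : va * va = 0 := by nlinarith [mul_self_nonneg va, mul_self_nonneg vb, mul_self_nonneg vc, mul_self_nonneg ve]
          have hb : vb * vb = 0 := by nlinarith [mul_self_nonneg va, mul_self_nonneg vb, mul_self_nonneg vc, mul_self_nonneg ve]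
          have hc : vc * vc = 0 := by nlinarith [mul_self_nonneg va, mul_self_nonneg vb, mul_self_nonneg vc, mul_self_nonneg ve]
          have he : ve * ve = 0 := by nlinarith [mul_self_nonneg va, mul_self_nonneg vb, mul_self_nonneg vc, mul_self_nonneg ve]
          exact hv (by simp [mul_self_eq_zero.1 ha, mul_self_eq_zero.1 hb, mul_self_eq_zero.1 hc, mul_self_eq_zero.1 he])
        rw [Multiset.card_cons]
        push_cast
        linarith
    have h := key m hne
    rw [hg] at h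
    simp only [target] at h
    omega
  obtain ⟨p, hp, hpm⟩ := mem_search 22 rows m hcard fun v hv => ⟨hm v hv, hne v hv⟩
  rw [hg] at hp
  exact ⟨p, of_decide_eq_true (List.all_eq_true.1 search_rows p hp), hpm⟩

end CfsgLib.Recog.SelfCentNine
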