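import Cfsg.Agent.Lib.Recog.SelfCentNine.Main

/-!
# The conclusion in terms of the normalizer
-/

set_option autoImplicit false

namespace CfsgLib.Recog.SelfCentNine

/-- No simple group has a self-centralizing elementary abelian Sylow 3-subgroup of order nine,
with normalizer containing the centralizers of its non-identity elements and dihedral Sylow
2-subgroups of the normalizer. -/
theorem not_simple {G : Type*} [Group G] [Finite G] (T : Sylow 3 G)
    (hcard : Nat.card (T : Subgroup G) = 9) (h3 : ∀ a ∈ (T : Subgroup G), a ^ 3 = 1)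
    (hC : Subgroup.centralizer ((T : Subgroup G) : Set G) = (T : Subgroup G))
    (hloc : ∀ a ∈ (T : Subgroup G), a ≠ 1 →
      Subgroup.centralizer ({a} : Set G) ≤ Subgroup.normalizer ((T : Subgroup G) : Set G))
    (P : Sylow 2 (Subgroup.normalizer ((T : Subgroup G) : Set G)))
    (eP : (P : Subgroup (Subgroup.normalizer ((T : Subgroup G) : Set G))) ≃* DihedralGroup 4) :
    ¬ IsSimpleGroup G := by
  intro hsimple
  haveI : Fact (Nat.Prime 2) := ⟨Nat.prime_two⟩
  obtain ⟨F⟩ := exists_frame T hcard h3
    (fun a ha b hb => (Subgroup.mem_centralizer_iff.1 (hC.ge hb)) a ha)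
    (fun g hg => hC.le (Subgroup.mem_centralizer_iff.2 fun a ha => (mul_inv_eq_iff_eq_mul.1 (hg a ha)).symm))
    (fun a ha ha1 g hg => hloc a ha ha1 (Subgroup.mem_centralizer_singleton_iff.2 hg))
    (fun n hn => by
      have h8 := Nat.card_congr eP.toEquiv
      rw [DihedralGroup.nat_card, P.card_eq_multiplicity] at h8
      have hle := (Nat.Prime.pow_dvd_iff_le_factorization Nat.prime_two Nat.card_pos.ne').1 hn
      have h := Nat.pow_le_pow_right (show 1 ≤ 2 by norm_num) hle
      rw [h8] at h
      exact (Nat.pow_le_pow_iff_right (by norm_num : 1 < 2)).1 (h.trans (le_of_eq (by norm_num : 2 * 4 = 2 ^ 3))))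
    ((Subgroup.subtype _).comp ((Subgroup.subtype _).comp eP.symm.toMonoidHom))
    (fun x y e => eP.symm.injective (Subtype.ext (Subtype.ext e)))
    (fun x => SetLike.coe_mem _)
  exact false_of_frame F

end CfsgLib.Recog.SelfCentNine
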