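import Mathlib.Tactic

/-!
# The arithmetic of the main pattern

Degrees `p, s ≡ 4`, `q = s - p + 1 ≡ 1`, `r ≡ 1`, `C = p - 1 - r ≡ 2` modulo nine with
`1296 / n = 2 + 4/p + 4/s + 2/q + 4/r + 16/C` and the sum of the squares at most `n`: five solutions.
-/

set_option autoImplicit false

namespace CfsgLib.Recog.SelfCentNine

/-- The triples `(C, p, s)` of the solutions. -/
def sols : List (ℤ × ℤ × ℤ) :=
  [(-16, -5, 4), (-16, -5, -14), (-7, 4, -5), (-7, -14, 4), (-25, -32, -5)]

/-- A triple which could be a solution is one of the five. -/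
def boxOk (C p s : ℤ) : Bool :=
  let q := s - p + 1
  let r := p - 1 - C
  let den := p * s * q * r * C
  let num := 2 * den + 4 * s * q * r * C + 4 * p * q * r * C + 2 * p * s * r * C + 4 * p * s * q * C +
    16 * p * s * q * r
  let num' := if den < 0 then -num else num
  let den' := if den < 0 then -den else den
  let Q := 1 + 2 * p * p + 2 * s * s + q * q + 2 * r * r + C * C
  !(decide (0 < num') && decide (num' * Q ≤ 1296 * den') && decide (1296 * den' % num' = 0) &&
    decide (1296 * den' / num' % 648 = 72) && decide (3 ≤ q.natAbs) && decide (3 ≤ r.natAbs)) ||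
  decide ((C, p, s) ∈ sols)

/-- The box `C` in the list, `p = 9 i + 4 - 9 a`, `s = 9 j + 4 - 9 b`. -/
def box (Cs : List ℤ) (a b : ℕ) : Bool :=
  Cs.all fun C => (List.range (2 * a)).all fun i => (List.range (2 * b)).all fun j =>
    boxOk C (9 * (i : ℤ) + 4 - 9 * (a : ℤ)) (9 * (j : ℤ) + 4 - 9 * (b : ℤ))

theorem boxOk_of_box {Cs : List ℤ} {a b : ℕ} (h : box Cs a b = true) {C p s : ℤ} (hC : C ∈ Cs)
    (hp : p % 9 = 4) (hs : s % 9 = 4) (hpa : |p| ≤ 9 * (a : ℤ) - 4) (hsb : |s| ≤ 9 * (b : ℤ) - 4) :
    boxOk C p s = true := by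
  simp only [box, List.all_eq_true, List.mem_range] at h
  rw [abs_le] at hpa hsb
  have h1 := h C hC ((p - 4 + 9 * a) / 9).toNat (by omega) ((s - 4 + 9 * b) / 9).toNat (by omega)
  rwa [show 9 * ((((p - 4 + 9 * a) / 9).toNat : ℤ)) + 4 - 9 * (a : ℤ) = p by omega,
    show 9 * ((((s - 4 + 9 * b) / 9).toNat : ℤ)) + 4 - 9 * (b : ℤ) = s by omega] at h1

/-- The negative values of `C` below `-7` which need a search. -/
def negC : List ℤ := [-16, -25, -34, -43, -52, -61, -70, -79, -88, -97, -106]

/-- The positive values of `C` which need a search. -/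
def posC : List ℤ := [11, 20, 29, 38, 47, 56, 65, 74, 83, 92, 101, 110, 119, 128]

set_option maxRecDepth 100000 in
set_option maxHeartbeats 4000000 in
theorem box_seven_a : box [-7] 17 34 = true := by decide +kernel

set_option maxRecDepth 100000 in
set_option maxHeartbeats 4000000 in
theorem box_seven_b : box [-7] 63 17 = true := by decide +kernel

set_option maxRecDepth 100000 in
set_option maxHeartbeats 4000000 in
theorem box_neg_a : box negC 9 17 = true := by decide +kernel

set_option maxRecDepth 100000 in
set_option maxHeartbeats 4000000 in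
theorem box_neg_b : box negC 22 9 = true := by decide +kernel

set_option maxRecDepth 100000 in
set_option maxHeartbeats 4000000 in
theorem box_pos : box posC 8 8 = true := by decide +kernel

/-- The tail criterion for `C` below `-7` and small `p`. -/
theorem tail_neg : negC.all (fun C => (List.range 18).all fun i =>
    let p := 9 * (i : ℤ) + 4 - 81
    let r := p - 1 - C
    decide (r.natAbs < 3) ||
      decide (32 * (p * r * C) * (p * r * C) ≤
        100 * (2 * (p * r * C) + 16 * (p * r) + 4 * (r * C) + 4 * (p * C)) * (p * r * C))) = true := by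
  decide +kernel

set_option maxRecDepth 100000 in
/-- The tail criterion for `C = -7` and small `p`. -/
theorem tail_seven : (List.range 34).all (fun i =>
    let p := 9 * (i : ℤ) + 4 - 153
    let r := p + 6
    decide (r.natAbs < 3) ||
      decide (389 * (p * r) * (p * r) ≤
        10000 * |-2 * (p * r) + 28 * r + 28 * p| * |p * r| / 7)) = true := by
  decide +kernel

theorem abs_div_le {a : ℚ} (ha : 0 ≤ a) {x : ℤ} {L : ℕ} (hL : 0 < L) (h : (L : ℤ) ≤ |x|) :
    |a / (x : ℚ)| ≤ a / (L : ℚ) := by
  rw [abs_div, abs_of_nonneg ha]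
  refine div_le_div_of_nonneg_left ha (by exact_mod_cast hL) ?_
  rw [← Int.cast_abs]
  exact_mod_cast h

theorem div_bounds {a : ℚ} (ha : 0 ≤ a) {x : ℤ} {L : ℕ} (hL : 0 < L) (h : (L : ℤ) ≤ |x|) :
    -(a / (L : ℚ)) ≤ a / (x : ℚ) ∧ a / (x : ℚ) ≤ a / (L : ℚ) :=
  abs_le.1 (abs_div_le ha hL h)

theorem le_div_of_neg_bound {a : ℚ} (ha : 0 ≤ a) {x : ℤ} {L : ℕ} (hL : 0 < L) (h : x < 0 → x ≤ -(L : ℤ)) :
    -(a / (L : ℚ)) ≤ a / (x : ℚ) := by
  rcases lt_trichotomy x 0 with hx | hx | hx
  · exact (div_bounds ha hL (by have := h hx; rw [abs_of_neg hx]; omega)).1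
  · subst hx; simp only [Int.cast_zero, div_zero, neg_nonpos]; positivity
  · have : (0 : ℚ) ≤ a / (x : ℚ) := div_nonneg ha (by exact_mod_cast hx.le)
    have : (0 : ℚ) ≤ a / (L : ℚ) := div_nonneg ha (Nat.cast_nonneg L)
    linarith

/-- The value `1296 / n` against the square of a degree. -/
theorem contra_of_lower {t δ : ℚ} {x : ℤ} {n L : ℕ} (hn : 0 < n) (ht : t = 1296 / (n : ℚ))
    (hδ : 0 < δ) (hle : δ ≤ t) (hQ : 1 + 2 * x * x ≤ (n : ℤ)) (hx : (L : ℤ) ≤ |x|)
    (hbig : 1296 ≤ δ * (2 * (L : ℚ) * L)) : False := by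
  have hnq : (0 : ℚ) < (n : ℚ) := by exact_mod_cast hn
  have h1 : t * (n : ℚ) = 1296 := by rw [ht, div_mul_cancel₀ _ hnq.ne']
  have h2 : (2 * (L : ℚ) * L) < (n : ℚ) := by
    have h3 : 2 * (L : ℤ) * L < (n : ℤ) := by
      have h4 : (L : ℤ) * L ≤ |x| * |x| := mul_le_mul hx hx (Int.natCast_nonneg L) (abs_nonneg x)
      rw [abs_mul_abs_self] at h4
      linarith
    exact_mod_cast h3
  nlinarith

/-- The five solutions. -/
theorem pattern_five {p s q r C : ℤ} {n : ℕ} (hn : 0 < n) (hp : p % 9 = 4) (hs : s % 9 = 4)
    (hq : q % 9 = 1) (hr : r % 9 = 1) (hC : C % 9 = 2) (hq3 : 3 ≤ q.natAbs) (hr3 : 3 ≤ r.natAbs)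
    (hC3 : 3 ≤ C.natAbs) (hqd : q = s - p + 1) (hCd : C = p - 1 - r) (hn648 : n % 648 = 72)
    (hQ : 1 + 2 * p * p + 2 * s * s + q * q + 2 * r * r + C * C ≤ (n : ℤ))
    (ht : 2 + 4 / (p : ℚ) + 4 / (s : ℚ) + 2 / (q : ℚ) + 4 / (r : ℚ) + 16 / (C : ℚ) = 1296 / (n : ℚ)) :
    (C, p, s) ∈ sols := by
  have hrd : r = p - 1 - C := by omega
  have hne : p ≠ s := fun h => by rw [hqd, h] at hq3; simp at hq3
  have htpos : (0 : ℚ) < 1296 / (n : ℚ) := div_pos (by norm_num) (by exact_mod_cast hn)
  have hnp : 1 + 2 * p * p ≤ (n : ℤ) := by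
    linarith [mul_self_nonneg p, mul_self_nonneg s, mul_self_nonneg q, mul_self_nonneg r, mul_self_nonneg C]
  have hns : 1 + 2 * s * s ≤ (n : ℤ) := by
    linarith [mul_self_nonneg p, mul_self_nonneg s, mul_self_nonneg q, mul_self_nonneg r, mul_self_nonneg C]
  have hnr : 1 + 2 * r * r ≤ (n : ℤ) := by
    linarith [mul_self_nonneg p, mul_self_nonneg s, mul_self_nonneg q, mul_self_nonneg r, mul_self_nonneg C]
  set t : ℚ := 1296 / (n : ℚ) with htdef
  -- the basic lower bounds
  have bp : (-(4 / 5 : ℚ)) ≤ 4 / (p : ℚ) := by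
    have := le_div_of_neg_bound (a := 4) (by norm_num) (L := 5) (by norm_num) (x := p) (fun h => by omega)
    simpa using this
  have bs : (-(4 / 5 : ℚ)) ≤ 4 / (s : ℚ) := by
    have := le_div_of_neg_bound (a := 4) (by norm_num) (L := 5) (by norm_num) (x := s) (fun h => by omega)
    simpa using this
  have bps : (-(4 / 5 : ℚ)) + -(4 / 14 : ℚ) ≤ 4 / (p : ℚ) + 4 / (s : ℚ) := by
    by_cases h : p = -5
    · have := le_div_of_neg_bound (a := 4) (by norm_num) (L := 14) (by norm_num) (x := s) (fun h => by omega)
      push_cast at this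
      linarith
    · have := le_div_of_neg_bound (a := 4) (by norm_num) (L := 14) (by norm_num) (x := p) (fun h => by omega)
      push_cast at this
      linarith
  have bq : (-(2 / 8 : ℚ)) ≤ 2 / (q : ℚ) := by
    have := le_div_of_neg_bound (a := 2) (by norm_num) (L := 8) (by norm_num) (x := q) (fun h => by omega)
    simpa using this
  have br : (-(4 / 8 : ℚ)) ≤ 4 / (r : ℚ) := by
    have := le_div_of_neg_bound (a := 4) (by norm_num) (L := 8) (by norm_num) (x := r) (fun h => by omega)
    simpa using this
  -- a box finishes the proof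
  have finish : boxOk C p s = true → (C, p, s) ∈ sols := by
    intro hb
    simp only [boxOk, Bool.or_eq_true, Bool.not_eq_true', decide_eq_true_eq] at hb
    refine hb.resolve_left fun hfalse => ?_
    rw [← hqd, ← hrd] at hfalse
    set den := p * s * q * r * C with hden
    set num := 2 * den + 4 * s * q * r * C + 4 * p * q * r * C + 2 * p * s * r * C + 4 * p * s * q * C +
      16 * p * s * q * r with hnum
    have hp0 : (p : ℚ) ≠ 0 := Int.cast_ne_zero.2 (by omega)
    have hs0 : (s : ℚ) ≠ 0 := Int.cast_ne_zero.2 (by omega)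
    have hq0 : (q : ℚ) ≠ 0 := Int.cast_ne_zero.2 (by omega)
    have hr0 : (r : ℚ) ≠ 0 := Int.cast_ne_zero.2 (by omega)
    have hC0 : (C : ℚ) ≠ 0 := Int.cast_ne_zero.2 (by omega)
    have hd0 : den ≠ 0 := by
      simp only [hden, mul_ne_zero_iff]
      omega
    have hn0 : (n : ℚ) ≠ 0 := Nat.cast_ne_zero.2 hn.ne'
    have heq : num * (n : ℤ) = 1296 * den := by
      have h1 : ((num * (n : ℤ) : ℤ) : ℚ) = ((1296 * den : ℤ) : ℚ) := by
        have h2 : (num : ℚ) = (den : ℚ) * t := by
          rw [← ht, hnum, hden]
          push_cast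
          field_simp
        push_cast
        rw [h2, htdef]
        field_simp
      exact_mod_cast h1
    set num' := if den < 0 then -num else num with hnum'
    set den' := if den < 0 then -den else den with hden'
    have heq' : num' * (n : ℤ) = 1296 * den' := by
      rw [hnum', hden']
      split_ifs
      · linarith
      · exact heq
    have hdpos : 0 < den' := by rw [hden']; split_ifs <;> omega
    have hnpos : 0 < num' := by
      by_contra hcon
      have : num' * (n : ℤ) ≤ 0 := mul_nonpos_of_nonpos_of_nonneg (by omega) (Int.natCast_nonneg n)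
      omega
    have h4 : num' * (1 + 2 * p * p + 2 * s * s + q * q + 2 * r * r + C * C) ≤ 1296 * den' :=
      heq' ▸ mul_le_mul_of_nonneg_left hQ hnpos.le
    have h5 : 1296 * den' % num' = 0 := by rw [← heq']; exact Int.mul_emod_right _ _
    have h6 : 1296 * den' / num' % 648 = 72 := by
      rw [← heq', Int.mul_ediv_cancel_left _ hnpos.ne']
      omega
    simp [hnpos, h4, h5, h6, hq3, hr3] at hfalse
  -- positive or very negative `C`
  have hC3' : C ≤ -7 ∨ 11 ≤ C := by omega
  rcases hC3' with hCn | hCp
  swap
  · have b16 : (0 : ℚ) ≤ 16 / (C : ℚ) := div_nonneg (by norm_num) (by exact_mod_cast (show (0 : ℤ) ≤ C by omega))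
    have hlow : (23 / 140 : ℚ) ≤ t := by rw [← ht]; linarith
    have small : ∀ x : ℤ, 1 + 2 * x * x ≤ (n : ℤ) → |x| ≤ 63 := by
      intro x hx
      by_contra hcon
      exact contra_of_lower hn htdef (by norm_num) hlow hx (L := 63) (by push_cast; omega) (by norm_num)
    have hps := small p hnp
    have hrs := small r hnr
    have hss := small s hns
    refine finish (boxOk_of_box box_pos ?_ hp hs ?_ ?_)
    · rw [abs_le] at hps hrs
      simp only [posC, List.mem_cons, List.not_mem_nil, or_false]
      omega
    · push_cast; omega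
    · push_cast; omega
  by_cases hfar : C ≤ -115
  · exfalso
    have b16 : (-(16 / 115 : ℚ)) ≤ 16 / (C : ℚ) := by
      have := le_div_of_neg_bound (a := 16) (by norm_num) (L := 115) (by norm_num) (x := C) (fun h => by omega)
      simpa using this
    rcases (show 57 ≤ |p| ∨ 57 ≤ |r| by by_contra h; push Not at h; rw [abs_lt, abs_lt] at h; omega) with h | h
    · have bp' := (div_bounds (a := 4) (by norm_num) (x := p) (L := 57) (by norm_num) (by simpa using h)).1
      push_cast at bp'
      exact contra_of_lower hn htdef (δ := 24 / 100) (by norm_num) (by rw [← ht]; linarith) hnp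
        (L := 57) (by simpa using h) (by norm_num)
    · have br' := (div_bounds (a := 4) (by norm_num) (x := r) (L := 57) (by norm_num) (by simpa using h)).1
      push_cast at br'
      exact contra_of_lower hn htdef (δ := 45 / 100) (by norm_num) (by rw [← ht]; linarith) hnr
        (L := 57) (by simpa using h) (by norm_num)
  by_cases h7 : C = -7
  · -- `C = -7`
    have hr6 : r = p + 6 := by omega
    have h16 : 16 / (C : ℚ) = -(16 / 7) := by rw [h7]; norm_num
    by_cases hpsmall : |p| ≤ 149
    · by_cases hssmall : |s| ≤ 301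
      · exact finish (boxOk_of_box box_seven_a (by simp [h7]) hp hs (by push_cast; omega) (by push_cast; omega))
      exfalso
      have bs' := div_bounds (a := 4) (by norm_num) (x := s) (L := 302) (by norm_num) (by push_cast; omega)
      have bq' := div_bounds (a := 2) (by norm_num) (x := q) (L := 152) (by norm_num) (by
        rw [hqd]; push_cast
        have := abs_sub_abs_le_abs_sub s (p - 1)
        have h2 := abs_sub p 1
        simp only [abs_one] at h2
        rw [show s - (p - 1) = s - p + 1 by ring] at this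
        omega)
      push_cast at bs' bq'
      have hcrit := tail_seven
      simp only [List.all_eq_true, List.mem_range] at hcrit
      have h := hcrit ((p - 4 + 153) / 9).toNat (by rw [abs_le] at hpsmall; omega)
      rw [show 9 * ((((p - 4 + 153) / 9).toNat : ℤ)) + 4 - 153 = p by rw [abs_le] at hpsmall; omega,
        ← hr6] at h
      simp only [Bool.or_eq_true, decide_eq_true_eq] at h
      have h' := h.resolve_left (by omega)
      set c : ℚ := 2 - 16 / 7 + 4 / (p : ℚ) + 4 / (r : ℚ) with hc
      have hpr : (p : ℚ) * (r : ℚ) ≠ 0 := mul_ne_zero (Int.cast_ne_zero.2 (by omega)) (Int.cast_ne_zero.2 (by omega))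
      set M := -2 * (p * r) + 28 * r + 28 * p with hM
      have hc7 : c * (7 * ((p : ℚ) * (r : ℚ))) = (M : ℚ) := by
        have hp0 : (p : ℚ) ≠ 0 := Int.cast_ne_zero.2 (by omega)
        have hr0 : (r : ℚ) ≠ 0 := Int.cast_ne_zero.2 (by omega)
        rw [hc, hM]
        push_cast
        field_simp
        ring
      have habs : |c| * (7 * |(p : ℚ) * (r : ℚ)|) = ((|M| : ℤ) : ℚ) := by
        rw [Int.cast_abs, ← hc7, abs_mul, abs_mul]
        norm_num
      have h3 : (389 / 10000 : ℚ) ≤ |c| := by
        have h4 : (389 : ℤ) * (p * r) * (p * r) * 7 ≤ 10000 * |M| * |p * r| :=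
          le_trans (mul_le_mul_of_nonneg_right h' (by norm_num)) (Int.ediv_mul_le _ (by norm_num))
        have h5 : 389 * (|(p : ℚ) * (r : ℚ)| * |(p : ℚ) * (r : ℚ)|) * 7 ≤
            10000 * ((|M| : ℤ) : ℚ) * |(p : ℚ) * (r : ℚ)| := by
          rw [abs_mul_abs_self]
          have h6 : ((389 * (p * r) * (p * r) * 7 : ℤ) : ℚ) ≤ ((10000 * |M| * |p * r| : ℤ) : ℚ) := Int.cast_le.2 h4
          push_cast at h6 ⊢
          linarith
        rw [← habs] at h5
        have hpos : (0 : ℚ) < |(p : ℚ) * (r : ℚ)| := abs_pos.2 hpr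
        have h7' : 389 * (7 * (|(p : ℚ) * (r : ℚ)| * |(p : ℚ) * (r : ℚ)|)) ≤
            10000 * |c| * (7 * (|(p : ℚ) * (r : ℚ)| * |(p : ℚ) * (r : ℚ)|)) := by linarith
        have := le_of_mul_le_mul_right h7' (by positivity)
        linarith
      have htc : t = c + 4 / (s : ℚ) + 2 / (q : ℚ) := by rw [← ht, h16, hc]; ring
      rcases le_abs'.1 h3 with hneg | hpos'
      · linarith
      · exact contra_of_lower hn htdef (δ := 12 / 1000) (by norm_num) (by rw [htdef] at htc ⊢; linarith) hns
          (L := 302) (by push_cast; omega) (by norm_num)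
    · by_cases hssmall : |s| ≤ 149
      · by_cases hp560 : |p| ≤ 561
        · exact finish (boxOk_of_box box_seven_b (by simp [h7]) hp hs (by push_cast; omega) (by push_cast; omega))
        exfalso
        have bp' := div_bounds (a := 4) (by norm_num) (x := p) (L := 562) (by norm_num) (by push_cast; omega)
        have br' := div_bounds (a := 4) (by norm_num) (x := r) (L := 556) (by norm_num) (by
          push_cast
          have := abs_sub_abs_le_abs_sub p (-6)
          rw [show p - -6 = r by omega] at this
          norm_num at this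
          omega)
        have bq' := div_bounds (a := 2) (by norm_num) (x := q) (L := 412) (by norm_num) (by
          rw [hqd]; push_cast
          have := abs_sub_abs_le_abs_sub p (s + 1)
          rw [show p - (s + 1) = -(s - p + 1) by ring, abs_neg] at this
          have h2 := abs_add_le s 1
          simp only [abs_one] at h2
          omega)
        push_cast at bp' br' bq'
        have htc : t = 2 - 16 / 7 + 4 / (p : ℚ) + 4 / (r : ℚ) + 4 / (s : ℚ) + 2 / (q : ℚ) := by
          rw [← ht, h16]; ring
        rcases (show s < 0 ∨ s = 4 ∨ s = 13 ∨ 22 ≤ s by omega) with h | h | h | h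
        · have : 4 / (s : ℚ) ≤ 0 := div_nonpos_of_nonneg_of_nonpos (by norm_num) (by exact_mod_cast h.le)
          linarith
        · subst h
          push_cast at htc
          exact contra_of_lower hn htdef (δ := 1 / 2) (by norm_num) (by linarith) hnp
            (L := 562) (by push_cast; omega) (by norm_num)
        · subst h
          push_cast at htc
          exact contra_of_lower hn htdef (δ := 27 / 10000) (by norm_num) (by linarith) hnp
            (L := 562) (by push_cast; omega) (by norm_num)
        · have : 4 / (s : ℚ) ≤ 4 / 22 := by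
            refine div_le_div_of_nonneg_left (by norm_num) (by norm_num) ?_
            exact_mod_cast h
          linarith
      exfalso
      have bp' := div_bounds (a := 4) (by norm_num) (x := p) (L := 150) (by norm_num) (by push_cast; omega)
      have bs' := div_bounds (a := 4) (by norm_num) (x := s) (L := 150) (by norm_num) (by push_cast; omega)
      have br' := div_bounds (a := 4) (by norm_num) (x := r) (L := 144) (by norm_num) (by
        push_cast
        have := abs_sub_abs_le_abs_sub p (-6)
        rw [show p - -6 = r by omega] at this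
        norm_num at this
        omega)
      have bq2 : 2 / (q : ℚ) ≤ 2 / 10 := by
        by_cases h : q < 0
        · have : 2 / (q : ℚ) ≤ 0 := div_nonpos_of_nonneg_of_nonpos (by norm_num) (by exact_mod_cast h.le)
          linarith
        · refine div_le_div_of_nonneg_left (by norm_num) (by norm_num) ?_
          exact_mod_cast (show (10 : ℤ) ≤ q by omega)
      push_cast at bp' bs' br'
      have : t = 2 - 16 / 7 + 4 / (p : ℚ) + 4 / (r : ℚ) + 4 / (s : ℚ) + 2 / (q : ℚ) := by
        rw [← ht, h16]; ring
      linarith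
  -- `C` between `-106` and `-16`
  have hCmem : C ∈ negC := by simp only [negC, List.mem_cons, List.not_mem_nil, or_false]; omega
  have b16 : (-(1 : ℚ)) ≤ 16 / (C : ℚ) := by
    have := le_div_of_neg_bound (a := 16) (by norm_num) (L := 16) (by norm_num) (x := C) (fun h => by omega)
    norm_num at this
    linarith
  by_cases hpsmall : |p| ≤ 69
  · by_cases hssmall : |s| ≤ 148
    · exact finish (boxOk_of_box box_neg_a hCmem hp hs (by push_cast; omega) (by push_cast; omega))
    exfalso
    have bs' := div_bounds (a := 4) (by norm_num) (x := s) (L := 149) (by norm_num) (by push_cast; omega)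
    have bq' := div_bounds (a := 2) (by norm_num) (x := q) (L := 79) (by norm_num) (by
      rw [hqd]; push_cast
      have := abs_sub_abs_le_abs_sub s (p - 1)
      have h2 := abs_sub p 1
      simp only [abs_one] at h2
      rw [show s - (p - 1) = s - p + 1 by ring] at this
      omega)
    push_cast at bs' bq'
    have hcrit := tail_neg
    simp only [List.all_eq_true, List.mem_range] at hcrit
    have h := hcrit C hCmem ((p - 4 + 81) / 9).toNat (by rw [abs_le] at hpsmall; omega)
    rw [show 9 * ((((p - 4 + 81) / 9).toNat : ℤ)) + 4 - 81 = p by rw [abs_le] at hpsmall; omega, ← hrd] at h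
    simp only [Bool.or_eq_true, decide_eq_true_eq] at h
    have h' := h.resolve_left (by omega)
    have hp0 : (p : ℚ) ≠ 0 := Int.cast_ne_zero.2 (by omega)
    have hr0 : (r : ℚ) ≠ 0 := Int.cast_ne_zero.2 (by omega)
    have hC0 : (C : ℚ) ≠ 0 := Int.cast_ne_zero.2 (by omega)
    have hc : (32 / 100 : ℚ) ≤ 2 + 16 / (C : ℚ) + 4 / (p : ℚ) + 4 / (r : ℚ) := by
      have h2 : ((32 * (p * r * C) * (p * r * C) : ℤ) : ℚ) ≤
          ((100 * (2 * (p * r * C) + 16 * (p * r) + 4 * (r * C) + 4 * (p * C)) * (p * r * C) : ℤ) : ℚ) :=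
        Int.cast_le.2 h'
      push_cast at h2
      have hpos : (0 : ℚ) < ((p : ℚ) * r * C) * ((p : ℚ) * r * C) :=
        mul_self_pos.2 (mul_ne_zero (mul_ne_zero hp0 hr0) hC0)
      rw [div_le_iff₀ (by norm_num : (0 : ℚ) < 100)]
      refine le_of_mul_le_mul_right ?_ hpos
      calc (32 : ℚ) * ((p : ℚ) * r * C * ((p : ℚ) * r * C))
          ≤ 100 * (2 * ((p : ℚ) * r * C) + 16 * ((p : ℚ) * r) + 4 * ((r : ℚ) * C) + 4 * ((p : ℚ) * C)) *
              ((p : ℚ) * r * C) := by linarith
        _ = _ := by field_simp
    exact contra_of_lower hn htdef (δ := 26 / 100) (by norm_num) (by rw [← ht]; linarith) hns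
      (L := 149) (by push_cast; omega) (by norm_num)
  by_cases hssmall : |s| ≤ 69
  · by_cases hp190 : |p| ≤ 193
    · exact finish (boxOk_of_box box_neg_b hCmem hp hs (by push_cast; omega) (by push_cast; omega))
    exfalso
    have bp' := div_bounds (a := 4) (by norm_num) (x := p) (L := 194) (by norm_num) (by push_cast; omega)
    have br' := div_bounds (a := 4) (by norm_num) (x := r) (L := 85) (by norm_num) (by
      push_cast
      have := abs_sub_abs_le_abs_sub p (C + 1)
      rw [show p - (C + 1) = r by omega] at this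
      have hC' : |C + 1| ≤ 109 := abs_le.2 ⟨by omega, by omega⟩
      omega)
    have bq' := div_bounds (a := 2) (by norm_num) (x := q) (L := 124) (by norm_num) (by
      rw [hqd]; push_cast
      have := abs_sub_abs_le_abs_sub p (s + 1)
      rw [show p - (s + 1) = -(s - p + 1) by ring, abs_neg] at this
      have h2 := abs_add_le s 1
      simp only [abs_one] at h2
      omega)
    push_cast at bp' br' bq'
    exact contra_of_lower hn htdef (δ := 11 / 100) (by norm_num) (by rw [← ht]; linarith) hnp
      (L := 194) (by push_cast; omega) (by norm_num)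
  exfalso
  have bp' := div_bounds (a := 4) (by norm_num) (x := p) (L := 70) (by norm_num) (by push_cast; omega)
  have bs' := div_bounds (a := 4) (by norm_num) (x := s) (L := 70) (by norm_num) (by push_cast; omega)
  push_cast at bp' bs'
  exact contra_of_lower hn htdef (δ := 1357 / 10000) (by norm_num) (by rw [← ht]; linarith) hnp
    (L := 70) (by push_cast; omega) (by norm_num)

end CfsgLib.Recog.SelfCentNine
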