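import Cfsg.Agent.Lib.Recog.SelfCentNine.Lattice
import Cfsg.Agent.Lib.Recog.SelfCentNine.PatternFive

/-!
# The six patterns

Degrees attached to the rows: only the order `720` and three orders divisible by seven with an
exceptional character of degree at most five survive.
-/

set_option autoImplicit false

namespace CfsgLib.Recog.SelfCentNine

/-- The first sum over a row, `X Y (Y - X)`. -/
def Row.cubeOne (v : Row) : ℤ := (v.a + v.b) * (v.c + v.e) * (v.c + v.e - (v.a + v.b))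

/-- The second sum over a row, `X Y (X + Y)`. -/
def Row.cubeTwo (v : Row) : ℤ := (v.a + v.b) * (v.c + v.e) * (v.a + v.b + (v.c + v.e))

/-- The opposite pair. -/
def negPair (u : ℤ × Row) : ℤ × Row := (-u.1, ⟨-u.2.a, -u.2.b, -u.2.c, -u.2.e⟩)

/-- The conclusion for a list of signed degrees with their rows. -/
def Good (n : ℕ) (P : List (ℤ × Row)) : Prop :=
  n = 720 ∨ (7 ∣ n ∧ ∃ u : ℤ × Row, |u.1| ≤ 5 ∧ P.countP (fun v => decide (v = u ∨ v = negPair u)) = 1)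

theorem eq_neg_of_inv {x y : ℤ} (hx : x ≠ 0) (hy : y ≠ 0) (h : 1 / (x : ℚ) + 1 / (y : ℚ) = 0) :
    y = -x := by
  have hx' : (x : ℚ) ≠ 0 := Int.cast_ne_zero.2 hx
  have hy' : (y : ℚ) ≠ 0 := Int.cast_ne_zero.2 hy
  rw [div_add_div _ _ hx' hy', div_eq_zero_iff] at h
  rcases h with h | h
  · have h2 : ((y + x : ℤ) : ℚ) = 0 := by push_cast; linarith
    have h3 : y + x = 0 := by exact_mod_cast h2
    omega
  · exact absurd h (mul_ne_zero hx' hy')

theorem n_cases {n : ℕ} (hn : n % 648 = 72) (h720 : 720 ≤ n) {δ : ℚ} (hδ : (0 : ℚ) < δ)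
    (hle : δ ≤ 1296 / (n : ℚ)) {K : ℕ} (hK : (1296 : ℚ) < δ * ((K + 1 : ℕ) : ℚ)) : n ≤ K := by
  by_contra hcon
  have h1 : ((K + 1 : ℕ) : ℚ) ≤ (n : ℚ) := by exact_mod_cast (show K + 1 ≤ n by omega)
  rw [le_div_iff₀ (by exact_mod_cast (show 0 < n by omega))] at hle
  nlinarith

/-- The finite check for two terms. -/
theorem two_term_check : ([720, 1368] : List ℕ).all (fun n => (List.range 9).all fun i => (List.range 5).all fun j =>
    let x := 9 * (i : ℤ) + 2 - 36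
    let y := 18 * (j : ℤ) + 1 - 36
    decide (x.natAbs < 3) || decide ((n : ℤ) * (2 * x * y + 16 * y + 2 * x) ≠ 1296 * x * y)) = true := by
  decide +kernel

/-- No degrees fit `1296 / n = 2 + 16 / x + 2 / y`. -/
theorem two_term {x y : ℤ} {n : ℕ} (hn : n % 648 = 72) (h720 : 720 ≤ n) (hx : x % 9 = 2)
    (hy : y % 18 = 1) (hy2 : 2 ≤ |y|) (hQ : 1 + x * x + y * y ≤ (n : ℤ))
    (ht : 2 + 16 / (x : ℚ) + 2 / (y : ℚ) = 1296 / (n : ℚ)) : False := by
  have hnq : (0 : ℚ) < (n : ℚ) := by exact_mod_cast (show 0 < n by omega)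
  have htpos : (0 : ℚ) < 1296 / (n : ℚ) := div_pos (by norm_num) hnq
  have ht18 : 1296 / (n : ℚ) ≤ 18 / 10 := by
    rw [div_le_iff₀ hnq]
    have : (720 : ℚ) ≤ (n : ℚ) := by exact_mod_cast h720
    linarith
  have hy0 : y ≤ -17 ∨ 19 ≤ y := by rcases le_abs'.1 hy2 with h | h <;> omega
  have by' := div_bounds (a := 2) (by norm_num) (x := y) (L := 17) (by norm_num) (by
    rcases hy0 with h | h
    · rw [abs_of_neg (by omega)]; push_cast; omega
    · rw [abs_of_pos (by omega)]; push_cast; omega)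
  push_cast at by'
  by_cases hx2 : x = 2
  · subst hx2; push_cast at ht; linarith
  by_cases hx7 : x = -7
  · subst hx7; push_cast at ht; linarith
  have bx := le_div_of_neg_bound (a := 16) (by norm_num) (L := 16) (by norm_num) (x := x) (fun h => by omega)
  push_cast at bx
  have hn' : n ≤ 1469 := n_cases hn h720 (δ := 1 - 2 / 17) (by norm_num) (by linarith) (by norm_num)
  have hn'' : (n : ℤ) ≤ 1368 := by omega
  have hxabs : -36 ≤ x ∧ x ≤ 36 :=
    ⟨by nlinarith [mul_self_nonneg y], by nlinarith [mul_self_nonneg y]⟩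
  have hyabs : -36 ≤ y ∧ y ≤ 36 :=
    ⟨by nlinarith [mul_self_nonneg x], by nlinarith [mul_self_nonneg x]⟩
  have h := two_term_check
  simp only [List.all_eq_true, List.mem_range] at h
  have h' := h n (by simp only [List.mem_cons, List.not_mem_nil, or_false]; omega) ((x - 2 + 36) / 9).toNat (by omega)
    ((y - 1 + 36) / 18).toNat (by omega)
  rw [show 9 * ((((x - 2 + 36) / 9).toNat : ℤ)) + 2 - 36 = x by omega,
    show 18 * ((((y - 1 + 36) / 18).toNat : ℤ)) + 1 - 36 = y by omega] at h'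
  simp only [Bool.or_eq_true, decide_eq_true_eq] at h'
  refine h'.resolve_left (by omega) ?_
  have hx0 : (x : ℚ) ≠ 0 := Int.cast_ne_zero.2 (by omega)
  have hy0' : (y : ℚ) ≠ 0 := Int.cast_ne_zero.2 (by omega)
  have h1 : (n : ℚ) * (2 + 16 / (x : ℚ) + 2 / (y : ℚ)) = 1296 := by rw [ht]; field_simp
  have h2 : (((n : ℤ) * (2 * x * y + 16 * y + 2 * x) : ℤ) : ℚ) = ((1296 * x * y : ℤ) : ℚ) := by
    push_cast
    rw [← h1]
    field_simp
  exact_mod_cast h2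

/-- The finite check for the fourth pattern. -/
theorem three_term_check : ([720, 1368, 2016, 2664] : List ℕ).all (fun n => (List.range 10).all fun i =>
    (List.range 9).all fun j =>
      let x := 9 * (i : ℤ) + 4 - 45
      let y := 9 * (j : ℤ) + 1 - 36
      let z := -1 - x + (x - y) / 2
      decide (y.natAbs < 2) || decide (z.natAbs < 2) || decide ((x - y) % 2 ≠ 0) ||
        decide ((x - y) / 2 % 9 ≠ 6) ||
        decide ((n : ℤ) * (2 * x * y * z + 4 * y * z + 4 * x * z + 2 * x * y) ≠ 1296 * x * y * z)) = true := by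
  decide +kernel

/-- No degrees fit the fourth pattern. -/
theorem three_term {x y z m : ℤ} {n : ℕ} (hn : n % 648 = 72) (h720 : 720 ≤ n) (hx : x % 9 = 4)
    (hy : y % 9 = 1) (hy2 : 2 ≤ |y|) (hz : z % 9 = 1) (hz2 : 2 ≤ |z|) (hm : m % 9 = 6)
    (hmd : x - y = 2 * m) (hzd : z = -1 - x + m) (hQ : 1 + 2 * x * x + 2 * y * y ≤ (n : ℤ))
    (ht : 2 + 4 / (x : ℚ) + 4 / (y : ℚ) + 2 / (z : ℚ) = 1296 / (n : ℚ)) : False := by
  have bx := le_div_of_neg_bound (a := 4) (by norm_num) (L := 5) (by norm_num) (x := x) (fun h => by omega)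
  have by' := le_div_of_neg_bound (a := 4) (by norm_num) (L := 8) (by norm_num) (x := y) (fun h => by
    rcases le_abs'.1 hy2 with h' | h' <;> omega)
  have bz := le_div_of_neg_bound (a := 2) (by norm_num) (L := 8) (by norm_num) (x := z) (fun h => by
    rcases le_abs'.1 hz2 with h' | h' <;> omega)
  push_cast at bx by' bz
  have hn' : n ≤ 2880 := n_cases hn h720 (δ := 45 / 100) (by norm_num) (by linarith) (by norm_num)
  have hn'' : (n : ℤ) ≤ 2664 := by omega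
  have hxabs : -40 ≤ x ∧ x ≤ 40 :=
    ⟨by nlinarith [mul_self_nonneg y], by nlinarith [mul_self_nonneg y]⟩
  have hyabs : -36 ≤ y ∧ y ≤ 36 := by
    have : n ≤ 2664 := by omega
    exact ⟨by nlinarith [mul_self_nonneg x], by nlinarith [mul_self_nonneg x]⟩
  have h := three_term_check
  simp only [List.all_eq_true, List.mem_range] at h
  have h' := h n (by simp only [List.mem_cons, List.not_mem_nil, or_false]; omega) ((x - 4 + 45) / 9).toNat (by omega)
    ((y - 1 + 36) / 9).toNat (by omega)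
  rw [show 9 * ((((x - 4 + 45) / 9).toNat : ℤ)) + 4 - 45 = x by omega,
    show 9 * ((((y - 1 + 36) / 9).toNat : ℤ)) + 1 - 36 = y by omega,
    show -1 - x + (x - y) / 2 = z by omega, show (x - y) / 2 = m by omega] at h'
  simp only [Bool.or_eq_true, decide_eq_true_eq] at h'
  have hy3 : 2 ≤ y.natAbs := by rcases le_abs'.1 hy2 with h'' | h'' <;> omega
  have hz3 : 2 ≤ z.natAbs := by rcases le_abs'.1 hz2 with h'' | h'' <;> omega
  refine h'.resolve_left (by omega) ?_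
  have hx0 : (x : ℚ) ≠ 0 := Int.cast_ne_zero.2 (by omega)
  have hy0' : (y : ℚ) ≠ 0 := Int.cast_ne_zero.2 (by omega)
  have hz0 : (z : ℚ) ≠ 0 := Int.cast_ne_zero.2 (by omega)
  have hn0 : (n : ℚ) ≠ 0 := Nat.cast_ne_zero.2 (by omega)
  have h1 : (n : ℚ) * (2 + 4 / (x : ℚ) + 4 / (y : ℚ) + 2 / (z : ℚ)) = 1296 := by rw [ht]; field_simp
  have h2 : (((n : ℤ) * (2 * x * y * z + 4 * y * z + 4 * x * z + 2 * x * y) : ℤ) : ℚ) =
      ((1296 * x * y * z : ℤ) : ℚ) := by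
    push_cast
    rw [← h1]
    field_simp
  exact_mod_cast h2

/-- The hypotheses on a list of signed degrees with their rows. -/
structure Sys (n : ℕ) (P : List (ℤ × Row)) : Prop where
  hn : n % 648 = 72
  h720 : 720 ≤ n
  two_le : ∀ u ∈ P, 2 ≤ |u.1|
  cong : ∀ u ∈ P, (u.1 - 2 * (u.2.c + u.2.e) + (u.2.a + u.2.b)) % 9 = 0
  sq : 1 + (P.map fun u => u.1 * u.1).sum ≤ (n : ℤ)
  orth_a : (P.map fun u => u.1 * u.2.a).sum = -1
  orth_b : (P.map fun u => u.1 * u.2.b).sum = 0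
  orth_c : (P.map fun u => u.1 * u.2.c).sum = -1
  orth_e : (P.map fun u => u.1 * u.2.e).sum = 0
  sum_one : (P.map fun u => (u.2.cubeOne : ℚ) / (u.1 : ℚ)).sum = 0
  sum_two : (P.map fun u => (u.2.cubeTwo : ℚ) / (u.1 : ℚ)).sum = 1296 / (n : ℚ) - 2

theorem exists_seven {α : Type} {l : List α} (h : l.length = 7) :
    ∃ a b c d e f g : α, l = [a, b, c, d, e, f, g] := by
  match l, h with
  | [a, b, c, d, e, f, g], _ => exact ⟨a, b, c, d, e, f, g, rfl⟩

theorem exists_eight {α : Type} {l : List α} (h : l.length = 8) :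
    ∃ a b c d e f g k : α, l = [a, b, c, d, e, f, g, k] := by
  match l, h with
  | [a, b, c, d, e, f, g, k], _ => exact ⟨a, b, c, d, e, f, g, k, rfl⟩

theorem two_le_abs_ne {x : ℤ} (h : 2 ≤ |x|) : x ≠ 1 ∧ x ≠ 0 ∧ x ≠ -1 := by
  refine ⟨?_, ?_, ?_⟩ <;> rintro rfl <;> norm_num at h

theorem pattern_zero {n : ℕ} {d1 d2 d3 d4 d5 d6 d7 : ℤ}
    (h : Sys n [(d1, ⟨1, 1, 1, 1⟩), (d2, ⟨1, 0, -1, -1⟩), (d3, ⟨1, 0, -1, -1⟩), (d4, ⟨1, 2, 0, 0⟩),
      (d5, ⟨1, 0, 0, 1⟩), (d6, ⟨0, 1, -1, -1⟩), (d7, ⟨0, 0, 1, -1⟩)]) : False := by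
  obtain ⟨hn, h720, h2, hm, hQ, ha, hb, hc, he, s1, s2⟩ := h
  simp only [List.forall_mem_cons, List.map_cons, List.map_nil, List.sum_cons, List.sum_nil] at h2 hm hQ ha hb hc he s1 s2
  norm_num [Row.cubeOne, Row.cubeTwo] at hm s1 s2
  obtain ⟨b1, b2, b3, b4, b5, b6, b7, -⟩ := h2
  obtain ⟨m1, m2, m3, m4, m5, m6, m7⟩ := hm
  refine two_term hn h720 (x := d1) (y := d5) (by omega) (by omega) b5 ?_ ?_
  · nlinarith [mul_self_nonneg d2, mul_self_nonneg d3, mul_self_nonneg d4, mul_self_nonneg d6, mul_self_nonneg d7]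
  · ring_nf at s1 s2 ⊢; linarith

theorem pattern_one {n : ℕ} {d1 d2 d3 d4 d5 d6 d7 : ℤ}
    (h : Sys n [(d1, ⟨2, 1, 0, 0⟩), (d2, ⟨1, 1, -1, 0⟩), (d3, ⟨0, 1, -1, -1⟩), (d4, ⟨0, 1, 1, 0⟩),
      (d5, ⟨0, 1, 1, 0⟩), (d6, ⟨0, 0, 1, 2⟩), (d7, ⟨0, 1, 0, 1⟩)]) : False := by
  obtain ⟨hn, h720, h2, hm, hQ, ha, hb, hc, he, s1, s2⟩ := h
  simp only [List.forall_mem_cons, List.map_cons, List.map_nil, List.sum_cons, List.sum_nil] at h2 hm hQ ha hb hc he s1 s2
  norm_num [Row.cubeOne, Row.cubeTwo] at hm s1 s2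
  obtain ⟨b1, b2, b3, b4, b5, b6, b7, -⟩ := h2
  have := eq_neg_of_inv (two_le_abs_ne b2).2.1 (two_le_abs_ne b3).2.1 (by ring_nf at s1 ⊢; linarith)
  exact (two_le_abs_ne b7).1 (by omega)

theorem pattern_two {n : ℕ} {d1 d2 d3 d4 d5 d6 d7 : ℤ}
    (h : Sys n [(d1, ⟨1, 1, -1, 0⟩), (d2, ⟨1, 1, -1, 0⟩), (d3, ⟨1, 1, 1, 1⟩), (d4, ⟨1, -1, 0, 0⟩),
      (d5, ⟨1, 1, 0, -1⟩), (d6, ⟨0, 1, 1, 0⟩), (d7, ⟨0, 0, 1, 2⟩)]) : False := by
  obtain ⟨hn, h720, h2, hm, hQ, ha, hb, hc, he, s1, s2⟩ := h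
  simp only [List.forall_mem_cons, List.map_cons, List.map_nil, List.sum_cons, List.sum_nil] at h2 hm hQ ha hb hc he s1 s2
  norm_num [Row.cubeOne, Row.cubeTwo] at hm s1 s2
  obtain ⟨b1, b2, b3, b4, b5, b6, b7, -⟩ := h2
  obtain ⟨m1, m2, m3, m4, m5, m6, m7⟩ := hm
  refine two_term hn h720 (x := d3) (y := d6) (by omega) (by omega) b6 ?_ ?_
  · nlinarith [mul_self_nonneg d1, mul_self_nonneg d2, mul_self_nonneg d4, mul_self_nonneg d5, mul_self_nonneg d7]
  · ring_nf at s1 s2 ⊢; linarith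

theorem pattern_three {n : ℕ} {d1 d2 d3 d4 d5 d6 d7 : ℤ}
    (h : Sys n [(d1, ⟨1, 1, -1, 0⟩), (d2, ⟨1, 0, -1, -1⟩), (d3, ⟨1, 0, 1, 0⟩), (d4, ⟨1, 2, 0, 0⟩),
      (d5, ⟨1, 0, 0, 1⟩), (d6, ⟨0, 1, 1, 0⟩), (d7, ⟨0, 0, 1, 2⟩)]) : False := by
  obtain ⟨hn, h720, h2, hm, hQ, ha, hb, hc, he, s1, s2⟩ := h
  simp only [List.forall_mem_cons, List.map_cons, List.map_nil, List.sum_cons, List.sum_nil] at h2 hm hQ ha hb hc he s1 s2
  norm_num [Row.cubeOne, Row.cubeTwo] at hm s1 s2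
  obtain ⟨b1, b2, b3, b4, b5, b6, b7, -⟩ := h2
  obtain ⟨m1, m2, m3, m4, m5, m6, m7⟩ := hm
  have h12 := eq_neg_of_inv (two_le_abs_ne b1).2.1 (two_le_abs_ne b2).2.1 (by ring_nf at s1 ⊢; linarith)
  have h56 : d6 = d5 := by omega
  subst h12
  subst h56
  push_cast [div_neg] at s2
  refine three_term hn h720 (x := -d1) (y := d6) (z := d3) (m := d7) (by omega) (by omega) b6 (by omega) b3
    (by omega) (by omega) (by omega) ?_ ?_
  · nlinarith [mul_self_nonneg d3, mul_self_nonneg d4, mul_self_nonneg d7]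
  · push_cast [div_neg]; ring_nf at s2 ⊢; linarith

theorem pattern_four {n : ℕ} {d1 d2 d3 d4 d5 d6 d7 : ℤ}
    (h : Sys n [(d1, ⟨1, 0, -1, -1⟩), (d2, ⟨1, 2, 0, 0⟩), (d3, ⟨1, 1, 0, -1⟩), (d4, ⟨1, 0, 0, 1⟩),
      (d5, ⟨1, 0, 0, 1⟩), (d6, ⟨0, 0, 2, 1⟩), (d7, ⟨0, 1, 0, 1⟩)]) : False := by
  obtain ⟨hn, h720, h2, hm, hQ, ha, hb, hc, he, s1, s2⟩ := h
  simp only [List.forall_mem_cons, List.map_cons, List.map_nil, List.sum_cons, List.sum_nil] at h2 hm hQ ha hb hc he s1 s2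
  norm_num [Row.cubeOne, Row.cubeTwo] at hm s1 s2
  obtain ⟨b1, b2, b3, b4, b5, b6, b7, -⟩ := h2
  have := eq_neg_of_inv (two_le_abs_ne b1).2.1 (two_le_abs_ne b3).2.1 (by ring_nf at s1 ⊢; linarith)
  exact (two_le_abs_ne b7).1 (by omega)

set_option maxHeartbeats 1600000 in
theorem pattern_last {n : ℕ} {d1 d2 d3 d4 d5 d6 d7 d8 : ℤ}
    (h : Sys n [(d1, ⟨1, 1, -1, 0⟩), (d2, ⟨1, 1, 1, 1⟩), (d3, ⟨1, 0, -1, -1⟩), (d4, ⟨1, 1, 0, -1⟩),
      (d5, ⟨1, 0, 0, 1⟩), (d6, ⟨0, 1, -1, -1⟩), (d7, ⟨0, 1, 1, 0⟩), (d8, ⟨0, 1, 0, 1⟩)]) :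
    Good n [(d1, ⟨1, 1, -1, 0⟩), (d2, ⟨1, 1, 1, 1⟩), (d3, ⟨1, 0, -1, -1⟩), (d4, ⟨1, 1, 0, -1⟩),
      (d5, ⟨1, 0, 0, 1⟩), (d6, ⟨0, 1, -1, -1⟩), (d7, ⟨0, 1, 1, 0⟩), (d8, ⟨0, 1, 0, 1⟩)] := by
  obtain ⟨hn, h720, h2, hm, hQ, ha, hb, hc, he, s1, s2⟩ := h
  simp only [List.forall_mem_cons, List.map_cons, List.map_nil, List.sum_cons, List.sum_nil] at h2 hm hQ ha hb hc he s1 s2
  norm_num [Row.cubeOne, Row.cubeTwo] at hm s1 s2
  obtain ⟨b1, b2, b3, b4, b5, b6, b7, b8, -⟩ := h2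
  obtain ⟨m1, m2, m3, m4, m5, m6, m7, m8⟩ := hm
  have hS : d1 + d4 = -(d3 + d6) := by omega
  have hS0 : d3 + d6 ≠ 0 := by omega
  have f1 : (d1 : ℚ) ≠ 0 := Int.cast_ne_zero.2 (two_le_abs_ne b1).2.1
  have f3 : (d3 : ℚ) ≠ 0 := Int.cast_ne_zero.2 (two_le_abs_ne b3).2.1
  have f4 : (d4 : ℚ) ≠ 0 := Int.cast_ne_zero.2 (two_le_abs_ne b4).2.1
  have f6 : (d6 : ℚ) ≠ 0 := Int.cast_ne_zero.2 (two_le_abs_ne b6).2.1
  have hinv : 1 / (d1 : ℚ) + 1 / (d4 : ℚ) + (1 / (d3 : ℚ) + 1 / (d6 : ℚ)) = 0 := by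
    ring_nf at s1 ⊢; linarith
  have hprodq : (((d3 + d6) * (d1 * d4 - d3 * d6) : ℤ) : ℚ) = 0 := by
    rw [div_add_div _ _ f1 f4, div_add_div _ _ f3 f6, div_add_div _ _ (mul_ne_zero f1 f4) (mul_ne_zero f3 f6),
      div_eq_zero_iff] at hinv
    have h' := hinv.resolve_right (mul_ne_zero (mul_ne_zero f1 f4) (mul_ne_zero f3 f6))
    have hS' : (d1 : ℚ) + (d4 : ℚ) = -((d3 : ℚ) + (d6 : ℚ)) := by exact_mod_cast hS
    push_cast
    linear_combination h' - ((d3 : ℚ) * (d6 : ℚ)) * hS'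
  have hprod : d1 * d4 = d3 * d6 := by
    have h3 : (d3 + d6) * (d1 * d4 - d3 * d6) = 0 := by exact_mod_cast hprodq
    rcases mul_eq_zero.1 h3 with h3 | h3 <;> omega
  have hsplit : (d1 + d3) * (d1 + d6) = 0 := by linear_combination d1 * hS - hprod
  rcases mul_eq_zero.1 hsplit with h13 | h16
  swap
  · exact absurd (show d8 = 1 by omega) (two_le_abs_ne b8).1
  have e1 : d1 = -d3 := by omega
  have e4 : d4 = -d6 := by omega
  have e5 : d7 = d5 := by omega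
  subst e1
  subst e4
  subst e5
  push_cast [div_neg] at s2
  have ht : 2 + 4 / (d6 : ℚ) + 4 / (d3 : ℚ) + 2 / (d8 : ℚ) + 4 / (d7 : ℚ) + 16 / (d2 : ℚ) = 1296 / (n : ℚ) := by
    ring_nf at s2 ⊢; linarith
  have hC3 : 3 ≤ d2.natAbs := by
    by_contra hcon
    have h22 : d2 = 2 := by
      have h' : 2 ≤ d2.natAbs := by omega
      omega
    subst h22
    have hlt : 1296 / (n : ℚ) ≤ 18 / 10 := by
      rw [div_le_iff₀ (by exact_mod_cast (show 0 < n by omega))]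
      have : (720 : ℚ) ≤ (n : ℚ) := by exact_mod_cast h720
      linarith
    have c3 := le_div_of_neg_bound (a := 4) (by norm_num) (L := 5) (by norm_num) (x := d3) (fun h => by omega)
    have c6 := le_div_of_neg_bound (a := 4) (by norm_num) (L := 5) (by norm_num) (x := d6) (fun h => by omega)
    have c8 := le_div_of_neg_bound (a := 2) (by norm_num) (L := 8) (by norm_num) (x := d8) (fun h => by
      rcases le_abs'.1 b8 with h' | h' <;> omega)
    have c7 := le_div_of_neg_bound (a := 4) (by norm_num) (L := 8) (by norm_num) (x := d7) (fun h => by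
      rcases le_abs'.1 b7 with h' | h' <;> omega)
    push_cast at c3 c6 c7 c8 ht
    linarith
  have hsol := pattern_five (p := d6) (s := d3) (q := d8) (r := d7) (C := d2) (show 0 < n by omega)
    (by omega) (by omega) (by omega) (by omega) (by omega)
    (by rcases le_abs'.1 b8 with h' | h' <;> omega) (by rcases le_abs'.1 b7 with h' | h' <;> omega)
    hC3 (by omega) (by omega) hn (by linarith) ht
  have hnq : (n : ℚ) ≠ 0 := Nat.cast_ne_zero.2 (by omega)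
  have hq : d8 = d3 - d6 + 1 := by omega
  have hr : d7 = d6 - 1 - d2 := by omega
  simp only [sols, List.mem_cons, List.not_mem_nil, or_false, Prod.mk.injEq] at hsol
  rcases hsol with ⟨rfl, rfl, rfl⟩ | ⟨rfl, rfl, rfl⟩ | ⟨rfl, rfl, rfl⟩ | ⟨rfl, rfl, rfl⟩ | ⟨rfl, rfl, rfl⟩
  all_goals subst hq hr
  all_goals norm_num at ht
  all_goals rw [eq_div_iff hnq] at ht
  · left
    have : (n : ℚ) = 720 := by linarith
    exact_mod_cast this
  · right
    have : (n : ℚ) = 20160 := by linarith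
    have hv : n = 20160 := by exact_mod_cast this
    exact ⟨by rw [hv]; norm_num, (-5, ⟨0, 1, -1, -1⟩), by norm_num, by decide⟩
  · right
    have : (n : ℚ) = 20160 := by linarith
    have hv : n = 20160 := by exact_mod_cast this
    exact ⟨by rw [hv]; norm_num, (-5, ⟨1, 0, -1, -1⟩), by norm_num, by decide⟩
  · right
    have : (n : ℚ) = 38304 := by linarith
    have hv : n = 38304 := by exact_mod_cast this
    exact ⟨by rw [hv]; norm_num, (4, ⟨1, 0, -1, -1⟩), by norm_num, by decide⟩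
  · right
    have : (n : ℚ) = 201600 := by linarith
    have hv : n = 201600 := by exact_mod_cast this
    exact ⟨by rw [hv]; norm_num, (-5, ⟨1, 0, -1, -1⟩), by norm_num, by decide⟩

theorem good_of_zipWith {n : ℕ} {ds : List ℤ} {p : List Row} (hp : p ∈ patterns)
    (hlen : ds.length = p.length) (h : Sys n (List.zipWith Prod.mk ds p)) :
    Good n (List.zipWith Prod.mk ds p) := by
  simp only [patterns, List.mem_cons, List.not_mem_nil, or_false] at hp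
  rcases hp with rfl | rfl | rfl | rfl | rfl | rfl
  · obtain ⟨a, b, c, d, e, f, g, rfl⟩ := exists_seven hlen
    exact (pattern_zero h).elim
  · obtain ⟨a, b, c, d, e, f, g, rfl⟩ := exists_seven hlen
    exact (pattern_one h).elim
  · obtain ⟨a, b, c, d, e, f, g, rfl⟩ := exists_seven hlen
    exact (pattern_two h).elim
  · obtain ⟨a, b, c, d, e, f, g, rfl⟩ := exists_seven hlen
    exact (pattern_three h).elim
  · obtain ⟨a, b, c, d, e, f, g, rfl⟩ := exists_seven hlen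
    exact (pattern_four h).elim
  · obtain ⟨a, b, c, d, e, f, g, k, rfl⟩ := exists_eight hlen
    exact pattern_last h

end CfsgLib.Recog.SelfCentNine
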