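import Cfsg.Agent.Lib.Recog.SelfCentNine.Counts
import Cfsg.Agent.Lib.Components.Subnormal
import Cfsg.Agent.S0058

/-!
# The simple normal subgroup

With a Sylow 3-subgroup as in the frame which is not normal, the group has a simple normal
subgroup containing it, with trivial centralizer.
-/

set_option autoImplicit false

namespace CfsgLib.Recog.SelfCentNine

theorem reach_unit : ∀ v : V, v ≠ 0 → (∃ x, act x v = (1, 0)) ∨ (∃ x, v + act x v = (1, 0)) ∨
    ∃ x, -(v + act x v) = (1, 0) := by decide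

theorem act_swap_unit : act (.sr 1) ((1, 0) : V) = (0, 1) := by decide

variable {G : Type*} [Group G] [Finite G] {T : Sylow 3 G} (F : Frame T)

namespace Frame

include F in
omit [Finite G] in
theorem centralizer_mem {g : G} (hg : ∀ a ∈ (T : Subgroup G), g * a = a * g) : g ∈ (T : Subgroup G) := by
  obtain ⟨v, x, rfl⟩ := F.decomp g (F.loc _ (F.mem_phi (1, 0))
    (fun e => absurd (F.inj (e.trans F.zero.symm)) (by decide)) g (hg _ (F.mem_phi _)))
  have key : ∀ y : DihedralGroup 4, act y ((1, 0) : V) = (1, 0) → act y ((0, 1) : V) = (0, 1) → y = 1 := by decide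
  have hx : ∀ u, act x u = u := fun u => F.inj (by
    rw [← F.conj_word v, hg _ (F.mem_phi u), mul_inv_cancel_right])
  rw [key x (hx _) (hx _), map_one, mul_one]
  exact F.mem_phi v

include F in
omit [Finite G] in
theorem mem_three {g : G} (hg : g ∈ (T : Subgroup G)) : g ^ 3 = 1 := by
  obtain ⟨v, rfl⟩ := (F.mem g).1 hg
  exact F.phi_cube v

include F in
theorem card_eq_nine : Nat.card (T : Subgroup G) = 9 := by
  have hb : Function.Bijective (fun v => (⟨F.φ v, F.mem_phi v⟩ : (T : Subgroup G))) :=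
    ⟨fun u v e => F.inj (congrArg Subtype.val e), fun g => by
      obtain ⟨v, hv⟩ := (F.mem g).1 g.2
      exact ⟨v, Subtype.ext hv⟩⟩
  rw [← Nat.card_congr (Equiv.ofBijective _ hb), Nat.card_prod, Nat.card_zmod]

include F in
/-- A subgroup normalized by `T` of order prime to three is trivial. -/
theorem eq_bot_of_normalized {R : Subgroup G} (hR : (T : Subgroup G) ≤ Subgroup.normalizer (R : Set G))
    (h3 : ¬ 3 ∣ Nat.card R) : R = ⊥ := by
  haveI : IsMulCommutative (T : Subgroup G) :=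
    ⟨⟨fun a b => Subtype.ext (F.ab a a.2 b b.2)⟩⟩
  have hnc : ¬ IsCyclic (T : Subgroup G) := fun h => by
    obtain ⟨a, ha⟩ := h.exists_ofOrder_eq_natCard
    rw [F.card_eq_nine] at ha
    have := orderOf_dvd_of_pow_eq_one (show a ^ 3 = 1 from Subtype.ext (F.mem_three a.2))
    rw [ha] at this
    norm_num at this
  have hcop : (Nat.card (T : Subgroup G)).Coprime (Nat.card R) := by
    rw [F.card_eq_nine, show (9 : ℕ) = 3 ^ 2 by norm_num]
    exact Nat.Coprime.pow_left 2 ((Nat.prime_three.coprime_iff_not_dvd).2 h3)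
  rw [← Cfsg.Agent.S0058.result (T : Subgroup G) R hnc hR hcop, eq_bot_iff]
  refine iSup₂_le fun a ha n hn => ?_
  obtain ⟨hnR, hna⟩ := Subgroup.mem_inf.1 hn
  have hnN := F.loc a ha.1 ha.2 n (Subgroup.mem_centralizer_singleton_iff.1 hna)
  have htriv : ∀ c : G, c ∈ (T : Subgroup G) → c ∈ R → c = 1 := fun c hc hc' => by
    by_contra hc1
    haveI : Fact (Nat.Prime 3) := ⟨Nat.prime_three⟩
    exact h3 (orderOf_eq_prime (F.mem_three hc) hc1 ▸ R.orderOf_dvd_natCard hc')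
  rw [Subgroup.mem_bot]
  refine htriv n (F.centralizer_mem fun s hs => ?_) hnR
  have h1 : n * s * n⁻¹ * s⁻¹ ∈ (T : Subgroup G) :=
    mul_mem ((Subgroup.mem_normalizer_iff.1 hnN s).1 hs) (inv_mem hs)
  have h2 : n * s * n⁻¹ * s⁻¹ ∈ R := by
    rw [show n * s * n⁻¹ * s⁻¹ = n * (s * n⁻¹ * s⁻¹) by group]
    exact mul_mem hnR ((Subgroup.mem_normalizer_iff.1 (hR hs) _).1 (inv_mem hnR))
  exact mul_inv_eq_iff_eq_mul.1 (mul_inv_eq_one.1 (htriv _ h1 h2))

include F in
/-- A normal subgroup of the group contains `T` unless it is trivial. -/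
theorem le_of_normal {L : Subgroup G} (hL : L.Normal) (hne : L ≠ ⊥) : (T : Subgroup G) ≤ L := by
  haveI : Fact (Nat.Prime 3) := ⟨Nat.prime_three⟩
  have h3 : 3 ∣ Nat.card L := by
    by_contra h
    exact hne (F.eq_bot_of_normalized (fun s _ => by rw [Subgroup.normalizer_eq_top_iff.2 hL]; trivial) h)
  obtain ⟨y, hy⟩ := exists_prime_orderOf_dvd_card' (G := L) 3 h3
  rw [← Subgroup.orderOf_coe] at hy
  have hp : IsPGroup 3 (Subgroup.zpowers (y : G)) :=
    IsPGroup.of_card (n := 1) (by rw [Nat.card_zpowers, hy, pow_one])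
  obtain ⟨R, hR⟩ := hp.exists_le_sylow
  obtain ⟨c, hc⟩ := MulAction.exists_smul_eq G T R
  have hyR : (y : G) ∈ (R : Subgroup G) := hR (Subgroup.mem_zpowers _)
  rw [← hc] at hyR
  obtain ⟨q, hq, hqy⟩ := hyR
  have hq' : c * q * c⁻¹ = (y : G) := hqy
  have hqL : q ∈ L := by
    have := hL.conj_mem _ y.2 c⁻¹
    rwa [← hq', show c⁻¹ * (c * q * c⁻¹) * c⁻¹⁻¹ = q by group] at this
  have hq1 : q ≠ 1 := fun e => by
    rw [e, mul_one, mul_inv_cancel] at hq'
    rw [← hq', orderOf_one] at hy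
    omega
  obtain ⟨v0, rfl⟩ := (F.mem q).1 hq
  let A : AddSubgroup V :=
    { carrier := {v | F.φ v ∈ L}
      zero_mem' := by show F.φ 0 ∈ L; rw [F.zero]; exact one_mem L
      add_mem' := fun {u v} hu hv => by show F.φ (u + v) ∈ L; rw [F.add]; exact mul_mem hu hv
      neg_mem' := fun {v} hv => by show F.φ (-v) ∈ L; rw [F.neg]; exact inv_mem hv }
  have hact : ∀ x v, v ∈ A → act x v ∈ A := fun x v hv => by
    show F.φ (act x v) ∈ L
    rw [← F.conj]
    exact hL.conj_mem _ hv _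
  have hv0 : v0 ≠ 0 := fun e => hq1 (by rw [e, F.zero])
  have h10 : ((1, 0) : V) ∈ A := by
    rcases reach_unit v0 hv0 with ⟨x, hx⟩ | ⟨x, hx⟩ | ⟨x, hx⟩
    · exact hx ▸ hact x v0 hqL
    · exact hx ▸ add_mem hqL (hact x v0 hqL)
    · exact hx ▸ neg_mem (add_mem hqL (hact x v0 hqL))
  have h01 : ((0, 1) : V) ∈ A := by
    have := hact (.sr 1) _ h10
    rwa [act_swap_unit] at this
  intro a ha
  obtain ⟨v, rfl⟩ := (F.mem a).1 ha
  show v ∈ A
  rw [show v = v.1.val • ((1, 0) : V) + v.2.val • ((0, 1) : V) by ext <;> simp]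
  exact add_mem (nsmul_mem h10 _) (nsmul_mem h01 _)

include F in
theorem normal_of_le_normalizer {K : Subgroup G} (hK : K.Normal) (hTK : (T : Subgroup G) ≤ K)
    (hKN : K ≤ Subgroup.normalizer ((T : Subgroup G) : Set G)) : (T : Subgroup G).Normal := by
  refine ⟨fun a ha g => F.three_mem (hKN (hK.conj_mem a (hTK ha) g)) ?_⟩
  rw [conj_pow, F.mem_three ha, mul_one, mul_inv_cancel]

include F in
/-- The simple normal subgroup. -/
theorem exists_simple (hnn : ¬ (T : Subgroup G).Normal) :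
    ∃ K : Subgroup G, K.Normal ∧ (T : Subgroup G) ≤ K ∧ IsSimpleGroup K ∧
      Subgroup.centralizer (K : Set G) = ⊥ := by
  haveI : Fact (Nat.Prime 3) := ⟨Nat.prime_three⟩
  have hTne : (T : Subgroup G) ≠ ⊥ := fun e => by
    have := F.card_eq_nine
    rw [e, Subgroup.card_bot] at this
    omega
  obtain ⟨t, ht, ht1⟩ := SetLike.exists_of_lt (bot_lt_iff_ne_bot.2 hTne)
  haveI : Nontrivial G := ⟨⟨t, 1, fun e => ht1 (e ▸ one_mem _)⟩⟩
  obtain ⟨K, hK, hKne, -, hKmin⟩ :=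
    CfsgLib.Components.exists_minimal_normal_le (G := G) (N := ⊤) inferInstance (by
      intro e
      exact ht1 (by rw [← e]; trivial))
  haveI := hK
  have hTK := F.le_of_normal hK hKne
  have hKN : ¬ K ≤ Subgroup.normalizer ((T : Subgroup G) : Set G) := fun h => hnn (F.normal_of_le_normalizer hK hTK h)
  refine ⟨K, hK, hTK, ?_, ?_⟩
  swap
  · by_contra hne
    have hn : (Subgroup.centralizer (K : Set G)).Normal := inferInstance
    have hT := F.le_of_normal hn hne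
    refine hKN fun k hk => Subgroup.le_normalizer (F.centralizer_mem fun a ha => ?_)
    exact Subgroup.mem_centralizer_iff.1 (hT ha) k hk
  -- simplicity
  haveI : Nontrivial K := ⟨⟨⟨t, hTK ht⟩, 1, fun e => ht1 (by
    rw [show t = 1 from congrArg Subtype.val e]; exact one_mem _)⟩⟩
  refine ⟨fun R hR => ?_⟩
  by_cases hR0 : R = ⊥
  · exact Or.inl hR0
  right
  obtain ⟨R₀, hR₀, hR₀ne, hR₀R, hR₀min⟩ := CfsgLib.Components.exists_minimal_normal_le hR hR0
  suffices h : R₀ = ⊤ from eq_top_iff.2 (h ▸ hR₀R)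
  set R' := R₀.map K.subtype with hR'
  let Rg : G → Subgroup G := fun g => R'.map (MulAut.conj g).toMonoidHom
  have hR'K : R' ≤ K := Subgroup.map_subtype_le _
  have hRgK : ∀ g, Rg g ≤ K := by
    rintro g _ ⟨a, ha, rfl⟩
    exact hK.conj_mem a (hR'K ha) g
  have hnorm : ∀ (g : G) (k : G), k ∈ K → ∀ a ∈ Rg g, k * a * k⁻¹ ∈ Rg g := by
    rintro g k hk _ ⟨_, ⟨r, hr, rfl⟩, rfl⟩
    have hk' : g⁻¹ * k * g ∈ K := by
      have := hK.conj_mem k hk g⁻¹
      rwa [inv_inv] at this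
    refine ⟨g⁻¹ * k * g * (r : G) * (g⁻¹ * k * g)⁻¹, ?_, ?_⟩
    · exact ⟨⟨_, hk'⟩ * r * ⟨_, hk'⟩⁻¹, hR₀.conj_mem r hr _, rfl⟩
    · show g * (g⁻¹ * k * g * (r : G) * (g⁻¹ * k * g)⁻¹) * g⁻¹ = k * (g * (r : G) * g⁻¹) * k⁻¹
      group
  have hmeet : ∀ g, ∃ u ∈ (T : Subgroup G), u ≠ 1 ∧ u ∈ Rg g := by
    intro g
    have hne : Rg g ≠ ⊥ := fun e => hR₀ne (by
      rw [Subgroup.map_eq_bot_iff_of_injective _ (MulAut.conj g).injective] at e
      exact (Subgroup.map_eq_bot_iff_of_injective _ K.subtype_injective).1 e)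
    have h3 : 3 ∣ Nat.card (Rg g) := by
      by_contra h
      refine hne (F.eq_bot_of_normalized (fun s hs => Subgroup.mem_normalizer_iff.2 fun a =>
        ⟨hnorm g s (hTK hs) a, fun ha => ?_⟩) h)
      have := hnorm g s⁻¹ (inv_mem (hTK hs)) _ ha
      rwa [show s⁻¹ * (s * a * s⁻¹) * s⁻¹⁻¹ = a by group] at this
    obtain ⟨y, hy⟩ := exists_prime_orderOf_dvd_card' (G := Rg g) 3 h3
    rw [← Subgroup.orderOf_coe] at hy
    have hyK : (y : G) ∈ K := hRgK g y.2
    have hp : IsPGroup 3 (Subgroup.zpowers (⟨(y : G), hyK⟩ : K)) :=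
      IsPGroup.of_card (n := 1) (by rw [Nat.card_zpowers, ← Subgroup.orderOf_coe, hy, pow_one])
    obtain ⟨S, hS⟩ := hp.exists_le_sylow
    obtain ⟨c, hc⟩ := MulAction.exists_smul_eq K (T.subtype hTK) S
    have hyS : (⟨(y : G), hyK⟩ : K) ∈ (S : Subgroup K) := hS (Subgroup.mem_zpowers _)
    rw [← hc] at hyS
    obtain ⟨q, hq, hqy⟩ := hyS
    have hq' : (c : G) * (q : G) * (c : G)⁻¹ = (y : G) := congrArg Subtype.val hqy
    refine ⟨(q : G), hq, fun e => ?_, ?_⟩
    · rw [e, mul_one, mul_inv_cancel] at hq'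
      rw [← hq', orderOf_one] at hy
      omega
    · have := hnorm g (c : G)⁻¹ (inv_mem c.2) _ y.2
      rwa [← hq', show (c : G)⁻¹ * ((c : G) * (q : G) * (c : G)⁻¹) * (c : G)⁻¹⁻¹ = (q : G) by group] at this
  by_contra hR₀top
  have hR'one : Rg 1 = R' := by
    ext a
    constructor
    · rintro ⟨b, hb, rfl⟩
      simpa using hb
    · intro ha
      exact ⟨a, ha, by simp⟩
  have hR'ne : R' ≠ ⊥ := fun e => hR₀ne ((Subgroup.map_eq_bot_iff_of_injective _ K.subtype_injective).1 e)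
  obtain ⟨g₀, hg₀⟩ : ∃ g, Rg g ≠ R' := by
    by_contra hcon
    push Not at hcon
    have hn : R'.Normal := ⟨fun a ha g => hcon g ▸ ⟨a, ha, rfl⟩⟩
    rcases hKmin R' hn hR'K with h | h
    · exact hR'ne h
    · refine hR₀top (eq_top_iff.2 fun k _ => ?_)
      have hk : (k : G) ∈ R' := by rw [h]; exact k.2
      obtain ⟨r, hr, hrk⟩ := hk
      rwa [show r = k from Subtype.ext hrk] at hr
  have hdisj : ∀ g, Rg g ≠ R' → ∀ a ∈ Rg g, a ∈ R' → a = 1 := by
    intro g hg a ha ha'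
    set W := ((Rg g).subgroupOf K) ⊓ R₀ with hW
    have hWn : W.Normal := ⟨fun w hw k => by
      rw [hW, Subgroup.mem_inf, Subgroup.mem_subgroupOf] at hw ⊢
      exact ⟨hnorm g k k.2 _ hw.1, hR₀.conj_mem w hw.2 k⟩⟩
    rcases hR₀min W hWn inf_le_right with h | h
    · obtain ⟨r, hr, rfl⟩ := ha'
      have : r ∈ W := Subgroup.mem_inf.2 ⟨Subgroup.mem_subgroupOf.2 ha, hr⟩
      rw [h, Subgroup.mem_bot] at this
      rw [this]; rfl
    · exfalso
      refine hg ((Subgroup.eq_of_le_of_card_ge (fun b hb => ?_) ?_).symm)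
      · obtain ⟨r, hr, rfl⟩ := hb
        rw [← h] at hr
        exact Subgroup.mem_subgroupOf.1 (Subgroup.mem_inf.1 hr).1
      · exact (Subgroup.card_map_of_injective (MulAut.conj g).injective).le
  have hcomm : ∀ g, Rg g ≠ R' → ∀ a ∈ Rg g, ∀ b ∈ R', a * b = b * a := by
    intro g hg a ha b hb
    have hb' : ∀ k, k ∈ K → ∀ c ∈ R', k * c * k⁻¹ ∈ R' := fun k hk c hc =>
      hR'one ▸ hnorm 1 k hk c (hR'one.symm ▸ hc)
    have h1 : a * b * a⁻¹ * b⁻¹ ∈ R' := mul_mem (hb' a (hRgK g ha) b hb) (inv_mem hb)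
    have h2 : a * b * a⁻¹ * b⁻¹ ∈ Rg g := by
      rw [show a * b * a⁻¹ * b⁻¹ = a * (b * a⁻¹ * b⁻¹) by group]
      exact mul_mem ha (hnorm g b (hR'K hb) _ (inv_mem ha))
    exact mul_inv_eq_iff_eq_mul.1 (mul_inv_eq_one.1 (hdisj g hg _ h2 h1))
  have hR'N : R' ≤ Subgroup.normalizer ((T : Subgroup G) : Set G) := by
    obtain ⟨u, hu, hu1, hug⟩ := hmeet g₀
    exact fun b hb => F.loc u hu hu1 b (hcomm g₀ hg₀ u hug b hb).symm
  have hall : ∀ g, Rg g ≤ Subgroup.normalizer ((T : Subgroup G) : Set G) := by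
    intro g
    by_cases hg : Rg g = R'
    · rw [hg]; exact hR'N
    · obtain ⟨u, hu, hu1, hur⟩ := hmeet 1
      rw [hR'one] at hur
      exact fun a ha => F.loc u hu hu1 a (hcomm g hg a ha u hur)
  have hLK : Subgroup.normalClosure (R' : Set G) ≤ K := Subgroup.normalClosure_le_normal hR'K
  have hLN : Subgroup.normalClosure (R' : Set G) ≤ Subgroup.normalizer ((T : Subgroup G) : Set G) := by
    refine (Subgroup.closure_le _).2 fun a ha => ?_
    obtain ⟨r, hr, hra⟩ := Group.mem_conjugatesOfSet_iff.1 ha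
    obtain ⟨g, rfl⟩ := isConj_iff.1 hra
    exact hall g ⟨r, hr, rfl⟩
  rcases hKmin _ inferInstance hLK with h | h
  · exact hR'ne (eq_bot_iff.2 (h ▸ Subgroup.subset_normalClosure))
  · exact hKN (h ▸ hLN)

end Frame

end CfsgLib.Recog.SelfCentNine
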