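import Cfsg.Agent.Lib.Recog.SelfCentNine.Cases
import Cfsg.Agent.Lib.ClassSizes.AlternatingAut

/-!
# The symmetric group of degree six

An automorphism of the alternating group of degree six fixing an element of order three is
induced by a permutation; hence the group is the symmetric group.
-/

set_option autoImplicit false

namespace CfsgLib.Recog.SelfCentNine

open Equiv CfsgLib.ClassSizes.AlternatingAut

theorem unit_ne_zero : ((1, 0) : V) ≠ 0 := by decide

theorem act_fix_unit : act (.sr 0) ((1, 0) : V) = (1, 0) := by decide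

/-- An automorphism of the alternating group of degree six fixing an element of order three is
induced by a permutation. -/
theorem conjNormal_of_fixed_three (f₀ : MulAut (alternatingGroup (Fin 6))) (σ : alternatingGroup (Fin 6))
    (hσ : orderOf σ = 3) (hfix : f₀ σ = σ) :
    f₀ ∈ (MulAut.conjNormal : Perm (Fin 6) →* MulAut (alternatingGroup (Fin 6))).range := by
  classical
  have h6 : Fintype.card (Fin 6) = 6 := Fintype.card_fin 6
  have ho : ∀ (f : MulAut (alternatingGroup (Fin 6))) (τ : alternatingGroup (Fin 6)), orderOf (τ : Perm (Fin 6)) = 3 →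
      orderOf ((f τ : alternatingGroup (Fin 6)) : Perm (Fin 6)) = 3 := fun f τ hτ => by
    rw [Subgroup.orderOf_coe, MulEquiv.orderOf_eq, ← Subgroup.orderOf_coe]
    exact hτ
  have hiso : ∀ τ ρ : alternatingGroup (Fin 6), (τ : Perm (Fin 6)).IsThreeCycle →
      (ρ : Perm (Fin 6)).IsThreeCycle → ((f₀ τ : Perm (Fin 6)).IsThreeCycle) → (f₀ ρ : Perm (Fin 6)).IsThreeCycle := by
    intro τ ρ hτ hρ h1
    obtain ⟨c, hc⟩ := isConj_iff.1 (alternatingGroup.isThreeCycle_isConj
      (by rw [Nat.card_eq_fintype_card, h6]; norm_num) (σ := τ) (τ := ρ) hτ hρ)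
    rw [← hc, map_mul, map_mul, map_inv]
    show (((f₀ c : alternatingGroup (Fin 6)) : Perm (Fin 6)) * (f₀ τ : Perm (Fin 6)) *
      ((f₀ c : alternatingGroup (Fin 6)) : Perm (Fin 6))⁻¹).cycleType = {3}
    rw [Perm.cycleType_conj]
    exact h1
  have hσ' : orderOf (σ : Perm (Fin 6)) = 3 := by rw [Subgroup.orderOf_coe]; exact hσ
  suffices h : ∀ τ : alternatingGroup (Fin 6), (τ : Perm (Fin 6)).IsThreeCycle → (f₀ τ : Perm (Fin 6)).IsThreeCycle by
    obtain ⟨g, hg⟩ := exists_conjNormal_eq (by rw [h6]; norm_num) f₀ h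
    exact ⟨g, hg⟩
  rcases cycleType_cases_six h6 _ hσ' with h3 | h33
  · exact fun τ hτ => hiso σ τ h3 hτ (by rw [hfix]; exact h3)
  intro τ hτ
  by_contra hτf
  let S1 : Finset (alternatingGroup (Fin 6)) := Finset.univ.filter fun π => (π : Perm (Fin 6)).cycleType = {3}
  let S2 : Finset (alternatingGroup (Fin 6)) := Finset.univ.filter fun π => (π : Perm (Fin 6)).cycleType = {3, 3}
  have hcard : ∀ (m : Multiset ℕ), (∀ π : Perm (Fin 6), π.cycleType = m → π ∈ alternatingGroup (Fin 6)) →
      (Finset.univ.filter fun π : alternatingGroup (Fin 6) => (π : Perm (Fin 6)).cycleType = m).card =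
        (Finset.univ.filter fun π : Perm (Fin 6) => π.cycleType = m).card := by
    intro m hm
    refine Finset.card_bij (fun π _ => (π : Perm (Fin 6))) (fun π hπ => ?_) (fun π _ ρ _ h => Subtype.ext h)
      fun π hπ => ?_
    · simpa using hπ
    · simp only [Finset.mem_filter, Finset.mem_univ, true_and] at hπ
      exact ⟨⟨π, hm π hπ⟩, by simpa using hπ, rfl⟩
  have h12 : S2.card = S1.card := by
    rw [hcard _ fun π h => ?_, hcard _ fun π h => ?_, Perm.card_of_cycleType, Perm.card_of_cycleType, h6]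
    · decide
    all_goals (rw [Perm.mem_alternatingGroup, Perm.sign_of_cycleType, h]; decide)
  have himg : S1.map ⟨f₀, f₀.injective⟩ = S2 := by
    refine Finset.eq_of_subset_of_card_le (fun π hπ => ?_) (by rw [Finset.card_map, h12])
    obtain ⟨ρ, hρ, rfl⟩ := Finset.mem_map.1 hπ
    have hρ' : (ρ : Perm (Fin 6)).IsThreeCycle := by simpa [S1, Perm.IsThreeCycle] using hρ
    have h2 := (cycleType_cases_six h6 _ (ho f₀ ρ hρ'.orderOf)).resolve_left fun h => hτf (hiso ρ τ hρ' hτ h)
    simpa [S2] using h2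
  obtain ⟨ρ, hρ, hρσ⟩ := Finset.mem_map.1 (himg.symm ▸ (show σ ∈ S2 by simpa [S2] using h33))
  have e : ρ = σ := f₀.injective (hρσ.trans hfix.symm)
  simp only [S1, Finset.mem_filter, Finset.mem_univ, true_and, e, h33] at hρ
  exact absurd (congrArg Multiset.card hρ) (by decide)

variable {G : Type*} [Group G] [Finite G] {T : Sylow 3 G} (F : Frame T)

include F in
/-- The conclusion. -/
theorem normal_or_symSix : (T : Subgroup G).Normal ∨ Nonempty (G ≃* Perm (Fin 6)) := by
  classical
  haveI : Fact (Nat.Prime 3) := ⟨Nat.prime_three⟩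
  by_cases hnn : (T : Subgroup G).Normal
  · exact Or.inl hnn
  right
  obtain ⟨K, hK, hTK, hKs, hC⟩ := F.exists_simple hnn
  haveI := hK
  obtain ⟨⟨ψ⟩, hr, hs⟩ := F.simple_cases hK hKs hnn hTK
  let Φ : G →* MulAut (alternatingGroup (Fin 6)) :=
    (MulAut.congr ψ).toMonoidHom.comp (MulAut.conjNormal : G →* MulAut K)
  have happ : ∀ (g : G) (k : K), Φ g (ψ k) = ψ (MulAut.conjNormal g k) := fun g k => by
    show ψ (MulAut.conjNormal g (ψ.symm (ψ k))) = _
    rw [MulEquiv.symm_apply_apply]
  have hΦ : Function.Injective Φ := by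
    refine (injective_iff_map_eq_one _).2 fun g hg => ?_
    rw [← Subgroup.mem_bot, ← hC, Subgroup.mem_centralizer_iff]
    intro k hk
    have h := happ g ⟨k, hk⟩
    rw [hg, MulAut.one_apply] at h
    have h' := congrArg Subtype.val (ψ.injective h)
    rw [MulAut.conjNormal_apply] at h'
    exact (mul_inv_eq_iff_eq_mul.1 h'.symm).symm
  set R := (MulAut.conjNormal : Perm (Fin 6) →* MulAut (alternatingGroup (Fin 6))).range
  set G₀ := R.comap Φ with hG₀
  have hKG : K ≤ G₀ := fun k hk => by
    refine ⟨(ψ ⟨k, hk⟩ : alternatingGroup (Fin 6)), MulEquiv.ext fun a => ?_⟩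
    obtain ⟨b, rfl⟩ := ψ.surjective a
    rw [happ]
    refine Subtype.ext ?_
    rw [MulAut.conjNormal_apply]
    have e : MulAut.conjNormal k b = ⟨k, hk⟩ * b * ⟨k, hk⟩⁻¹ := Subtype.ext (by
      rw [MulAut.conjNormal_apply]; rfl)
    rw [e, map_mul, map_mul, map_inv]
    rfl
  have hb : F.ι (.sr 0) ∈ G₀ := by
    let k : K := ⟨F.φ (1, 0), hTK (F.mem_phi _)⟩
    refine conjNormal_of_fixed_three _ (ψ k) ?_ ?_
    · rw [MulEquiv.orderOf_eq, ← Subgroup.orderOf_coe]
      exact orderOf_eq_prime (F.phi_cube _) fun e => unit_ne_zero (F.inj (e.trans F.zero.symm))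
    · rw [happ]
      congr 1
      refine Subtype.ext ?_
      rw [MulAut.conjNormal_apply]
      show F.ι (.sr 0) * F.φ (1, 0) * (F.ι (.sr 0))⁻¹ = F.φ (1, 0)
      rw [F.conj, act_fix_unit]
  have hιr : ∀ k : ZMod 4, F.ι (.r k) ∈ G₀ := fun k => by
    rw [show DihedralGroup.r k = DihedralGroup.r 1 ^ k.val by rw [DihedralGroup.r_one_pow, ZMod.natCast_zmod_val],
      map_pow]
    exact pow_mem (hKG hr) _
  have hNG : Subgroup.normalizer ((T : Subgroup G) : Set G) ≤ G₀ := by
    intro g hg
    obtain ⟨v, x, rfl⟩ := F.decomp g hg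
    refine mul_mem (hKG (hTK (F.mem_phi v))) ?_
    cases x with
    | r k => exact hιr k
    | sr k =>
      rw [show DihedralGroup.sr k = DihedralGroup.sr 0 * DihedralGroup.r k by
        rw [DihedralGroup.sr_mul_r, zero_add], map_mul]
      exact mul_mem hb (hιr k)
  have htop : G₀ = ⊤ := by
    refine eq_top_iff.2 ?_
    have h := Sylow.normalizer_sup_eq_top (T.subtype hTK)
    rw [show ((T.subtype hTK : Sylow 3 K) : Subgroup K).map K.subtype = (T : Subgroup G) from
      Subgroup.map_subgroupOf_eq_of_le hTK] at h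
    rw [← h]
    exact sup_le hNG hKG
  have hinj6 := conjNormal_injective (α := Fin 6) (by rw [Fintype.card_fin]; norm_num)
  let e : Perm (Fin 6) ≃* R := MonoidHom.ofInjective hinj6
  let Ψ : G →* Perm (Fin 6) := e.symm.toMonoidHom.comp (Φ.codRestrict R fun g => by
    have : g ∈ G₀ := by rw [htop]; trivial
    exact this)
  have hΨ : Function.Injective Ψ := fun a b h => hΦ (congrArg Subtype.val (e.symm.injective h))
  refine ⟨MulEquiv.ofBijective Ψ (hΨ.bijective_of_nat_card_le ?_)⟩
  have hdvd : Nat.card G ∣ 720 := by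
    have h := Subgroup.card_dvd_of_injective Ψ hΨ
    rwa [Nat.card_perm, Nat.card_fin] at h
  have hK360 : Nat.card K = 360 := by
    rw [Nat.card_congr ψ.toEquiv, nat_card_alternatingGroup, Nat.card_fin]; rfl
  have hlt : Nat.card K < Nat.card G := by
    refine lt_of_le_of_ne (Subgroup.card_le_card_group K) fun h => hs ?_
    rw [Subgroup.eq_top_of_card_eq K h]
    trivial
  obtain ⟨m, hm⟩ := Subgroup.card_subgroup_dvd_card K
  rw [hK360] at hm hlt
  rw [hm] at hdvd hlt ⊢
  have hm2 : m ∣ 2 := Nat.dvd_of_mul_dvd_mul_left (by norm_num) (show 360 * m ∣ 360 * 2 from hdvd)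
  have := Nat.le_of_dvd (by norm_num) hm2
  rw [Nat.card_perm, Nat.card_fin]
  show 720 ≤ 360 * m
  omega

end CfsgLib.Recog.SelfCentNine
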